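import Cfsg.Agent.Lib.SpO.Blk

/-! Checks on coded matrices evaluated on blocks of vectors. -/

set_option autoImplicit false

namespace Cfsg.Agent.SpO
open Cfsg.Agent.CG Cfsg.Agent.Id

/-- `mw` evaluates words on lists of admissible codes. -/
def IsBlk (app : ℕ → ℕ → ℕ) (ok : ℕ → Prop) (mw : List ℕ → List ℕ → List ℕ) : Prop :=
  ∀ w xs, (∀ x ∈ xs, ok x) → mw w xs = xs.map (evp app w)

theorem isBlk_mapw {W p d : ℕ} (hp : 1 < p) (hW : 0 < W) (hd : 0 < d) (hB : 1 * d * (p - 1) ^ 2 < 2 ^ W)
    (hpB : p ≤ 2 ^ W) {steps : List (ℕ × ℕ)} (hs : redOK W p d steps = true) {tabs : List (List ℕ)}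
    (hc : tabsOK (2 ^ W) p d tabs = true) : IsBlk (apppT (2 ^ W) p (1 * d) tabs (idc (2 ^ W) d))
      (fun x => red (2 ^ W) p (1 * d) x = x) (mapw W p d steps tabs) :=
  fun w _ hx => mapw_eq hp hW hd hB hpB hs hc w hx

theorem ok_bas {B p d : ℕ} {tabs : List (List ℕ)} (hc : tabsOK B p d tabs = true) :
    ∀ x ∈ basp B 1 d, red B p (1 * d) x = x :=
  fun x hx => (beq_iff _ _).1 ((allL_iff _ _).1 ((band_eq _ _).1 hc).2 x hx)

/-- The pairs of corresponding entries. -/
noncomputable def zipL (l m : List ℕ) : List (ℕ × ℕ) :=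
  List.rec (motive := fun _ => List ℕ → List (ℕ × ℕ)) (fun _ => [])
    (fun a _ ih m => List.rec (motive := fun _ => List (ℕ × ℕ)) [] (fun b m' _ => (a, b) :: ih m') m) l m

theorem zipL_map (f : ℕ → ℕ) (l : List ℕ) : zipL l (l.map f) = l.map fun x => (x, f x) := by
  induction l with
  | nil => rfl
  | cons a l ih => exact congrArg (List.cons _) ih

/-- The word is trivial on the list. -/
noncomputable def oneB (mw : List ℕ → List ℕ → List ℕ) (B w : List ℕ) : Bool := eqL (mw w B) B

/-- The words agree on the list. -/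
noncomputable def eqB (mw : List ℕ → List ℕ → List ℕ) (B v w : List ℕ) : Bool := eqL (mw v B) (mw w B)

/-- The words differ at a point. -/
noncomputable def neB (mw : List ℕ → List ℕ → List ℕ) (x : ℕ) (v w : List ℕ) : Bool := bnot (eqB mw [x] v w)

/-- The check of inverse letters. -/
noncomputable def invB (mw : List ℕ → List ℕ → List ℕ) (B I : List ℕ) (K : ℕ) : Bool :=
  band (Nat.ble I.length K) (allLt (fun a => oneB mw B [nth I K a, a]) (Nat.succ K))

/-- The word maps the list into itself. -/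
noncomputable def keepB (mw : List ℕ → List ℕ → List ℕ) (O w : List ℕ) : Bool := allL (fun y => memL y O) (mw w O)

/-- The number of vectors of a level. -/
noncomputable def cntB (mw : List ℕ → List ℕ → List ℕ) (B p d : ℕ) (O zw : List ℕ) (k : ℕ) : ℕ :=
  cntL (fun q => Nat.beq (Nat.mod (dotc B d q.1 q.2) p) k) (zipL O (mw zw O))

/-- The word moves all points of the list other than `v`. -/
noncomputable def movB (mw : List ℕ → List ℕ → List ℕ) (O w : List ℕ) (v : ℕ) : Bool :=
  allL (fun q => bor (Nat.beq q.1 v) (bnot (Nat.beq q.2 q.1))) (zipL O (mw w O))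

namespace IsBlk
variable {app : ℕ → ℕ → ℕ} {ok : ℕ → Prop} {mw : List ℕ → List ℕ → List ℕ} (h : IsBlk app ok mw)
  {B : List ℕ} (hB : ∀ x ∈ B, ok x)
include h

section
include hB

theorem eq {v w : List ℕ} (e : eqB mw B v w = true) : eqW app B v w = true := by
  unfold eqB at e
  rw [h v B hB, h w B hB, eqL_iff, List.map_inj_left] at e
  exact (allL_iff _ _).2 fun b hb => (beq_iff _ _).2 (e b hb)

theorem one {v : List ℕ} (e : oneB mw B v = true) : eqW app B v [] = true := by
  refine h.eq hB ?_
  unfold oneB at e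
  unfold eqB
  rw [h [] B hB]
  exact (congrArg (fun l => eqL (mw v B) l) (List.map_id' B)).trans e

theorem inv {I : List ℕ} {K : ℕ} (e : invB mw B I K = true) : invOK app B I K = true := by
  unfold invB at e
  unfold invOK
  rw [band_eq, allLt_iff] at e ⊢
  exact ⟨e.1, fun a ha => h.one hB (e.2 a ha)⟩

theorem keep {w : List ℕ} (e : keepB mw B w = true) : keepChk app B w = true := by
  unfold keepB at e
  rw [h w B hB, allL_iff] at e
  exact (allL_iff _ _).2 fun x hx => by rw [force_eq]; exact e _ (List.mem_map_of_mem hx)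

theorem cnt (Bs p d : ℕ) (zw : List ℕ) (k : ℕ) :
    cntB mw Bs p d B zw k = cntL (fun x => Nat.beq (lev app Bs p d zw x) k) B := by
  unfold cntB
  rw [h zw B hB, zipL_map, cntL_eq, cntL_eq, List.countP_map]
  rfl

theorem mov {w : List ℕ} {v : ℕ} (e : movB mw B w v = true) {x : ℕ} (hx : x ∈ B) (e2 : evp app w x = x) : x = v := by
  unfold movB at e
  rw [h w B hB, zipL_map, allL_iff] at e
  have := e _ (List.mem_map_of_mem hx)
  rw [bor_eq, bnot_eq, beq_iff, beq_false_iff] at this
  exact this.resolve_right fun h => h e2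

end

theorem ne {x : ℕ} (hx : ok x) {v w : List ℕ} (e : neB mw x v w = true) : neW app x v w = true := by
  unfold neB eqB at e
  have h1 : ∀ y ∈ [x], ok y := by simpa using hx
  rw [h v _ h1, h w _ h1, bnot_eq, ← Bool.not_eq_true, eqL_iff] at e
  unfold neW
  rw [bnot_eq, beq_false_iff]
  simpa using e

end IsBlk

end Cfsg.Agent.SpO
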