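import Cfsg.Agent.Lib.SpO.BC

/-! Coded matrices over the field with two elements. -/

set_option autoImplicit false

namespace Cfsg.Agent.SpO
open Cfsg.Agent.CG Cfsg.Agent.Id Matrix

/-- All bytes are `0` or `1`. -/
noncomputable def okM (d : ℕ) (l : List ℕ) : Bool :=
  force (ones 8 d) fun m => allL (fun x => Nat.beq (Nat.land x m) x) l

theorem red_of_okM {d : ℕ} {l : List ℕ} (h : okM d l = true) : ∀ x ∈ l, red (2 ^ 8) 2 (1 * d) x = x := by
  intro x hx
  unfold okM at h
  rw [force_eq, allL_iff] at h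
  have h1 : x &&& ones 8 d = x := (beq_iff _ _).1 (h x hx)
  rw [ones_eq (by norm_num)] at h1
  have h2 : x < (2 ^ 8) ^ d := lt_of_le_of_lt (h1 ▸ Nat.and_le_right) (pk_lt fun _ _ => by norm_num)
  have h3 := land_pk (W := 8) (N := d) (f := dig (2 ^ 8) x) (g := fun _ => 1)
    (fun i _ => Nat.mod_lt _ (by positivity)) (fun i _ => by norm_num)
  rw [← eq_pk h2, h1] at h3
  rw [red_eq, one_mul]
  exact (pk_congr fun i _ => (Nat.and_one_is_mod _).symm).trans h3.symm

theorem tabsOK_of {d : ℕ} {tabs : List (List ℕ)}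
    (h : allL (fun c => band (Nat.beq c.length d) (okM d c)) (idc (2 ^ 8) d :: tabs) = true)
    (h2 : okM d (basp (2 ^ 8) 1 d) = true) : tabsOK (2 ^ 8) 2 d tabs = true := by
  unfold tabsOK
  rw [band_eq, allL_iff, allL_iff]
  refine ⟨fun c hc => ?_, fun c hc => (beq_iff _ _).2 (red_of_okM h2 c hc)⟩
  have := (allL_iff _ _).1 h c hc
  rw [band_eq, beq_iff] at this
  unfold colsOKp
  rw [band_eq, band_eq, beq_iff, allL_iff, allLt_iff]
  exact ⟨this.1.trans (one_mul d).symm, fun x hx => (beq_iff _ _).2 (red_of_okM this.2 x hx),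
    fun i _ => (bor_eq _ _).2 (Or.inl ((beq_iff _ _).2 (Nat.mod_one i)))⟩

/-- Every later entry is the image of an earlier one under a letter. -/
noncomputable def treeB (mw : List ℕ → List ℕ → List ℕ) (O : List ℕ) (K : ℕ) (par lab : ℕ → ℕ) (lo cnt : ℕ) : Bool :=
  allRange (fun i => force (par i) fun j => force (lab i) fun a =>
    band (blt j i) (band (blt a K) (Nat.beq (nth (mw [a] O) 0 j) (nth O 0 i)))) lo cnt

theorem nth_mem {O : List ℕ} {i : ℕ} (h : i < O.length) : nth O 0 i ∈ O := by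
  rw [nth_eq, List.getD_eq_getElem _ _ h]; exact List.getElem_mem _

theorem orbit_ge {G X : Type*} [Group G] [MulAction G X] [Finite G] {A : Act G X} {mw : List ℕ → List ℕ → List ℕ}
    (hb : IsBlk A.app A.ok mw) {O : List ℕ} (hO : ∀ x ∈ O, A.ok x) (hn : O.Nodup) {K n : ℕ} (hl : O.length = n + 1)
    {par lab : ℕ → ℕ} (e : treeB mw O K par lab 1 n = true) {H : Subgroup G} (hH : ∀ a, a < K → A.gen a ∈ H) :
    (n + 1) * Nat.card ↥(H ⊓ A.fix [nth O 0 0]) ≤ Nat.card H := by
  have key : ∀ i, i < n + 1 → ∃ g ∈ cl A.gen (List.range K), g • A.pt (nth O 0 0) = A.pt (nth O 0 i) := by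
    intro i
    induction i using Nat.strong_induction_on with
    | _ i ih =>
      intro hi
      rcases Nat.eq_zero_or_pos i with rfl | h0
      · exact ⟨1, one_mem _, one_smul _ _⟩
      have := (allRange_iff _ _ _).1 e i h0 (by omega)
      rw [force_eq, force_eq, band_eq, band_eq, blt_iff, blt_iff, beq_iff, hb _ _ hO] at this
      obtain ⟨g, h1, h2⟩ := ih _ this.1 (by omega)
      have h3 : par i < O.length := by omega
      refine ⟨A.gen (lab i) * g, mul_mem (gen_mem_cl _ (List.mem_range.2 this.2.1)) h1, ?_⟩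
      rw [mul_smul, h2, A.smul_pt _ _ (hO _ (nth_mem h3)), ← this.2.2, nth_eq, nth_eq,
        List.getD_eq_getElem _ _ h3, List.getD_eq_getElem _ _ (by simpa using h3), List.getElem_map]
      rfl
  have L : LvlOK A [] ⟨nth O 0 0, List.range K, n + 1, nth O 0, par, lab, lab, fun x => O.idxOf x, 0⟩ :=
    ⟨hO _ (nth_mem (by omega)), fun a _ => by simp [A.fix_nil], rfl, n.succ_pos, fun i hi => by
      have hi : i < O.length := hl ▸ hi
      change O.idxOf (nth O 0 i) = i
      rw [nth_eq, List.getD_eq_getElem _ _ hi, hn.idxOf_getElem],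
      fun i hi => hO _ (nth_mem (hl ▸ hi)), key⟩
  have h1 := L.le_card_orbit (K := H) fun a ha => hH a (List.mem_range.1 ha)
  have h2 := card_fix_cons (A := A) H [] (nth O 0 0)
  have h3 : Nat.card ↥(H ⊓ A.fix []) = Nat.card H := by rw [A.fix_nil, inf_top_eq]
  rw [← h3, h2]
  exact Nat.mul_le_mul_right _ h1

section diag
variable {ι : Type*} [Fintype ι] [DecidableEq ι]

theorem dot_symm {M : Matrix ι ι (ZMod 2)} (h : Mᵀ = M) (x : ι → ZMod 2) : x ⬝ᵥ M *ᵥ x = x ⬝ᵥ M.diag := by
  have e : ∀ a : ZMod 2, a * a = a := by decide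
  have e2 : ∀ a : ZMod 2, a + a = 0 := by decide
  simp only [dotProduct, mulVec, Finset.mul_sum]
  rw [← Finset.sum_product', ← Finset.diag_union_offDiag, Finset.sum_union (Finset.disjoint_diag_offDiag _),
    Finset.sum_diag, Finset.sum_involution (s := Finset.univ.offDiag) (fun p _ => p.swap), add_zero]
  · exact Finset.sum_congr rfl fun i _ => by rw [mul_comm (M i i), ← mul_assoc, e, diag_apply]
  · intro p _
    have : M p.2 p.1 = M p.1 p.2 := congrFun (congrFun h p.1) p.2
    simp only [Prod.fst_swap, Prod.snd_swap, this]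
    rw [← e2 (x p.1 * (M p.1 p.2 * x p.2))]; ring
  · intro p hp _ e
    exact (Finset.mem_offDiag.1 hp).2.2 (congrArg Prod.snd e)
  · intro p hp
    simpa using fun e => (Finset.mem_offDiag.1 hp).2.2 e.symm
  · intro p _; rfl

theorem fix_diag {Z g : GL ι (ZMod 2)} (h : (Z : Matrix ι ι (ZMod 2))ᵀ = Z) (hg : g ∈ orth ι (ZMod 2))
    (hc : g * Z = Z * g) : g • (Z : Matrix ι ι (ZMod 2)).diag = (Z : Matrix ι ι (ZMod 2)).diag := by
  refine dotProduct_eq _ _ fun x => ?_
  have e : ∀ y, y ⬝ᵥ Z • y = y ⬝ᵥ (Z : Matrix ι ι (ZMod 2)).diag := dot_symm h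
  obtain ⟨y, rfl⟩ : ∃ y, x = g • y := ⟨g⁻¹ • x, (smul_inv_smul g x).symm⟩
  rw [hg, dotProduct_comm, dotProduct_comm _ (g • y), ← e, ← e, ← mul_smul, ← hc, mul_smul, hg]

end diag

end Cfsg.Agent.SpO
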