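import Cfsg.Agent.Lib.SpO.Lev

/-! Applying coded matrices to many vectors at once. -/

set_option autoImplicit false

namespace Cfsg.Agent.SpO
open Cfsg.Agent.CG Cfsg.Agent.Id Finset

theorem eq_pk {B N x : ℕ} (h : x < B ^ N) : x = pk B N (dig B x) := by
  induction N generalizing x with
  | zero => simpa [pk] using h
  | succ N ih =>
    rw [pk_succ, dig_zero]
    simp only [dig_succ]
    rw [← ih (Nat.div_lt_of_lt_mul (by rwa [← pow_succ'])), Nat.mod_add_div]

theorem pk_lt {B N : ℕ} {f : ℕ → ℕ} (h : ∀ i < N, f i < B) : pk B N f < B ^ N := by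
  induction N generalizing f with
  | zero => simp [pk]
  | succ N ih =>
    have h1 := ih (f := fun i => f (i + 1)) fun i hi => h _ (by omega)
    have h2 := h 0 (by omega)
    rw [pk_succ, pow_succ']
    nlinarith

theorem land_pk {W N : ℕ} {f g : ℕ → ℕ} (hf : ∀ i < N, f i < 2 ^ W) (hg : ∀ i < N, g i < 2 ^ W) :
    pk (2 ^ W) N f &&& pk (2 ^ W) N g = pk (2 ^ W) N fun i => f i &&& g i := by
  induction N generalizing f g with
  | zero => simp [pk]
  | succ N ih =>
    rw [pk_succ, pk_succ, pk_succ, ← ih (fun i hi => hf _ (by omega)) fun i hi => hg _ (by omega)]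
    apply Nat.eq_of_testBit_eq
    intro j
    rw [Nat.testBit_and, add_comm (f 0), add_comm (g 0), add_comm (f 0 &&& g 0),
      Nat.testBit_two_pow_mul_add _ (hf 0 (by omega)), Nat.testBit_two_pow_mul_add _ (hg 0 (by omega)),
      Nat.testBit_two_pow_mul_add _ (Nat.and_lt_two_pow _ (hg 0 (by omega)))]
    split_ifs <;> simp

theorem mul_pk (c B N : ℕ) (f : ℕ → ℕ) : c * pk B N f = pk B N fun i => c * f i := by
  unfold pk; rw [mul_sum]; exact sum_congr rfl fun i _ => (mul_assoc _ _ _).symm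

theorem pk_add (B N : ℕ) (f g : ℕ → ℕ) : pk B N f + pk B N g = pk B N fun i => f i + g i := by
  unfold pk; rw [← sum_add_distrib]; exact sum_congr rfl fun i _ => (add_mul _ _ _).symm

theorem pk_sub {B N : ℕ} {f g : ℕ → ℕ} (h : ∀ i < N, g i ≤ f i) :
    pk B N f - pk B N g = pk B N fun i => f i - g i := by
  rw [Nat.sub_eq_iff_eq_add (show pk B N g ≤ pk B N f from
    sum_le_sum fun i hi => Nat.mul_le_mul_right _ (h i (mem_range.1 hi))), pk_add]
  exact pk_congr fun i hi => (Nat.sub_add_cancel (h i hi)).symm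

theorem pk_flat {B d : ℕ} (hd : 0 < d) (m : ℕ) (f : ℕ → ℕ → ℕ) :
    (pk (B ^ d) m fun k => pk B d (f k)) = pk B (d * m) fun n => f (n / d) (n % d) := by
  induction m with
  | zero => simp [pk]
  | succ m ih =>
    unfold pk at *
    rw [sum_range_succ, ih, Nat.mul_succ, sum_range_add, sum_mul]
    congr 1
    refine sum_congr rfl fun i hi => ?_
    have hi := mem_range.1 hi
    beta_reduce
    rw [Nat.mul_add_div hd, Nat.mul_add_mod, Nat.div_eq_of_lt hi, Nat.mod_eq_of_lt hi, ← pow_mul, pow_add]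
    simp [mul_assoc, mul_comm]

/-- The number with `m` fields of `W` bits, all equal to one. -/
noncomputable def ones (W m : ℕ) : ℕ := Nat.div (Nat.sub (Nat.pow 2 (Nat.mul W m)) 1) (Nat.sub (Nat.pow 2 W) 1)

theorem ones_eq {W : ℕ} (hW : 0 < W) (m : ℕ) : ones W m = pk (2 ^ W) m fun _ => 1 := by
  have h : 2 ≤ 2 ^ W := by simpa using Nat.pow_le_pow_right (by norm_num : 0 < 2) hW
  simp only [pk, one_mul]
  rw [Nat.geomSum_eq h, ← pow_mul]; rfl

/-- The columns times the rows of a block. -/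
noncomputable def linB (W M : ℕ) (cols : List ℕ) (X : ℕ) : ℕ :=
  List.rec (motive := fun _ => ℕ → ℕ) (fun _ => 0)
    (fun c _ ih X => force X fun X => Nat.add (Nat.mul c (Nat.land X M)) (ih (Nat.shiftRight X W))) cols X

theorem linB_eq {W d m : ℕ} (hW : 0 < W) (hd : 0 < d) (l : List ℕ) {X : ℕ} (hX : X < (2 ^ (W * d)) ^ m) :
    linB W ((2 ^ W - 1) * ones (W * d) m) l X =
      pk (2 ^ (W * d)) m fun k => linp (2 ^ W) l (X / (2 ^ (W * d)) ^ k) := by
  induction l generalizing X with
  | nil => simp [linB, linp, pk]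
  | cons c l ih =>
    have e : ∀ M, linB W M (c :: l) X = force X fun X => c * (X &&& M) + linB W M l (X >>> W) := fun _ => rfl
    have e2 : ∀ x, linp (2 ^ W) (c :: l) x = force x fun x => x % 2 ^ W * c + linp (2 ^ W) l (x / 2 ^ W) := fun _ => rfl
    have h1 : 2 ^ W - 1 < 2 ^ (W * d) :=
      lt_of_lt_of_le (Nat.sub_one_lt (by positivity)) (Nat.pow_le_pow_right (by norm_num) (Nat.le_mul_of_pos_right W hd))
    rw [e, force_eq, Nat.shiftRight_eq_div_pow, ih (lt_of_le_of_lt (Nat.div_le_self _ _) hX),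
      ones_eq (Nat.mul_pos hW hd), mul_pk]
    have h2 := land_pk (W := W * d) (N := m) (f := dig (2 ^ (W * d)) X) (g := fun _ => (2 ^ W - 1) * 1)
      (fun i _ => Nat.mod_lt _ (by positivity)) (fun i _ => by simpa using h1)
    rw [← eq_pk hX] at h2
    rw [h2, mul_pk, pk_add]
    refine pk_congr fun k _ => ?_
    rw [e2, force_eq, mul_one, Nat.and_two_pow_sub_one_eq_mod, dig, Nat.mod_mod_of_dvd _ (pow_dvd_pow 2
      (Nat.le_mul_of_pos_right W hd)), mul_comm c, Nat.div_div_eq_div_mul, Nat.div_div_eq_div_mul, mul_comm (2 ^ W)]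

theorem linp_mod {B d : ℕ} {l : List ℕ} (hl : l.length = d) (x : ℕ) : linp B l x = linp B l (x % B ^ d) := by
  rw [linp_eq, linp_eq, hl]
  refine sum_congr rfl fun i hi => ?_
  obtain ⟨j, rfl⟩ := Nat.exists_eq_add_of_lt (mem_range.1 hi)
  rw [dig, dig, add_assoc, pow_add, Nat.mod_mul_right_div_self, Nat.mod_mod_of_dvd _ (dvd_pow_self B (by omega))]

/-- Reduction of all fields modulo `p`. -/
noncomputable def redB (p O : ℕ) (steps : List (ℕ × ℕ)) (Y : ℕ) : ℕ :=
  List.rec (motive := fun _ => ℕ → ℕ) (fun Y => Y)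
    (fun q _ ih Y => force Y fun Y => force (Nat.mul q.1 Y) fun Z => ih (Nat.sub Y (Nat.mul p
      (Nat.shiftRight (Nat.sub Z (Nat.land Z (Nat.mul (Nat.sub (Nat.pow 2 q.2) 1) O))) q.2)))) steps Y

/-- The steps reduce the number `x`. -/
noncomputable def stepsOK (p B : ℕ) (steps : List (ℕ × ℕ)) (x : ℕ) : Bool :=
  List.rec (motive := fun _ => ℕ → Bool) (fun x => blt x p)
    (fun q _ ih x => force x fun x => force (Nat.mul q.1 x) fun z => force (Nat.mul p (Nat.shiftRight z q.2)) fun y =>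
      band (blt z B) (band (Nat.ble y x) (ih (Nat.sub x y)))) steps x

theorem redB_eq {W p N : ℕ} (hW : 0 < W) (steps : List (ℕ × ℕ)) (hs : ∀ q ∈ steps, q.2 ≤ W) {f : ℕ → ℕ}
    (h : ∀ i < N, stepsOK p (2 ^ W) steps (f i) = true) :
    redB p (ones W N) steps (pk (2 ^ W) N f) = pk (2 ^ W) N fun i => f i % p := by
  induction steps generalizing f with
  | nil => exact pk_congr fun i hi => (Nat.mod_eq_of_lt ((blt_iff _ _).1 (h i hi))).symm
  | cons q l ih =>
    have e : ∀ O Y, redB p O (q :: l) Y = force Y fun Y => force (q.1 * Y) fun Z =>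
      redB p O l (Y - p * ((Z - (Z &&& (2 ^ q.2 - 1) * O)) >>> q.2)) := fun _ _ => rfl
    have e2 : ∀ x, stepsOK p (2 ^ W) (q :: l) x = force x fun x => force (q.1 * x) fun z =>
      force (p * (z >>> q.2)) fun y => band (blt z (2 ^ W)) (band (Nat.ble y x) (stepsOK p (2 ^ W) l (x - y))) :=
      fun _ => rfl
    simp only [e2, force_eq, band_eq, blt_iff, ble_iff, Nat.shiftRight_eq_div_pow] at h
    have h1 : 2 ^ q.2 - 1 < 2 ^ W :=
      lt_of_lt_of_le (Nat.sub_one_lt (by positivity)) (Nat.pow_le_pow_right (by norm_num) (hs q List.mem_cons_self))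
    have h2 : (pk (2 ^ W) N fun i => q.1 * f i - (q.1 * f i &&& (2 ^ q.2 - 1) * 1)) =
        2 ^ q.2 * pk (2 ^ W) N fun i => q.1 * f i / 2 ^ q.2 := by
      rw [mul_pk]
      refine pk_congr fun i _ => ?_
      rw [mul_one, Nat.and_two_pow_sub_one_eq_mod, Nat.sub_eq_iff_eq_add (Nat.mod_le _ _), Nat.div_add_mod]
    rw [e, force_eq, force_eq]
    conv_lhs => arg 4; rw [ones_eq hW, mul_pk, mul_pk, land_pk (fun i hi => (h i hi).1) (fun i _ => by simpa using h1),
      pk_sub (fun i _ => Nat.and_le_left), h2, Nat.shiftRight_eq_div_pow, Nat.mul_div_cancel_left _ (by positivity),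
      mul_pk, pk_sub fun i hi => (h i hi).2.1]
    rw [ih (fun q hq => hs q (List.mem_cons_of_mem _ hq)) fun i hi => (h i hi).2.2]
    exact pk_congr fun i hi => Nat.sub_mul_mod (h i hi).2.1

/-- Packing a list into fields of `s` bits. -/
noncomputable def pack (s : ℕ) (l : List ℕ) : ℕ :=
  List.rec (motive := fun _ => ℕ) 0 (fun x _ ih => Nat.add x (Nat.shiftLeft ih s)) l

theorem pack_eq (s : ℕ) (l : List ℕ) : pack s l = pk (2 ^ s) l.length fun k => l.getD k 0 := by
  induction l with
  | nil => rfl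
  | cons x l ih =>
    have : pack s (x :: l) = x + pack s l <<< s := rfl
    rw [this, List.length_cons, pk_succ, ih, Nat.shiftLeft_eq, mul_comm]; simp

/-- Unpacking `m` fields of `s` bits. -/
noncomputable def unpack (s M m X : ℕ) : List ℕ :=
  Nat.rec (motive := fun _ => ℕ → List ℕ) (fun _ => [])
    (fun _ ih X => force X fun X => Nat.land X M :: ih (Nat.shiftRight X s)) m X

theorem unpack_pack {s : ℕ} {l : List ℕ} (h : ∀ x ∈ l, x < 2 ^ s) : unpack s (2 ^ s - 1) l.length (pack s l) = l := by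
  induction l with
  | nil => rfl
  | cons x l ih =>
    have e : ∀ X, unpack s (2 ^ s - 1) (l.length + 1) X = force X fun X =>
      (X &&& (2 ^ s - 1)) :: unpack s (2 ^ s - 1) l.length (X >>> s) := fun _ => rfl
    have : pack s (x :: l) = x + pack s l <<< s := rfl
    have hx := h x List.mem_cons_self
    rw [List.length_cons, e, force_eq, this, Nat.shiftLeft_eq, Nat.and_two_pow_sub_one_eq_mod, Nat.shiftRight_eq_div_pow,
      Nat.add_mul_mod_self_right, Nat.mod_eq_of_lt hx, Nat.add_mul_div_right _ _ (by positivity), Nat.div_eq_of_lt hx,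
      zero_add, ih fun y hy => h y (List.mem_cons_of_mem _ hy)]

/-- The images of a list of vectors under a word. -/
noncomputable def mapw (W p d : ℕ) (steps : List (ℕ × ℕ)) (tabs : List (List ℕ)) (w xs : List ℕ) : List ℕ :=
  force xs.length fun m => force (Nat.mul W d) fun s => force (Nat.mul (Nat.sub (Nat.pow 2 W) 1) (ones s m)) fun M =>
    force (ones W (Nat.mul d m)) fun O => force (Nat.sub (Nat.pow 2 s) 1) fun M' =>
      unpack s M' m (evp (fun a X => redB p O steps (linB W M (nth tabs (idc (Nat.pow 2 W) d) a) X)) w (pack s xs))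

/-- The check of the reduction steps. -/
noncomputable def redOK (W p d : ℕ) (steps : List (ℕ × ℕ)) : Bool :=
  band (allL (fun q => Nat.ble q.2 W) steps)
    (allLt (stepsOK p (Nat.pow 2 W) steps) (Nat.succ (Nat.mul d (Nat.pow (Nat.sub p 1) 2))))

section
variable {W p d : ℕ} (hp : 1 < p) (hW : 0 < W) (hd : 0 < d) (hB : 1 * d * (p - 1) ^ 2 < 2 ^ W) (hpB : p ≤ 2 ^ W)
  {steps : List (ℕ × ℕ)} (hs : redOK W p d steps = true)
include hp hpB

theorem lt_of_red {x : ℕ} (hx : red (2 ^ W) p (1 * d) x = x) : x < 2 ^ (W * d) := by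
  rw [eq_pk_of_red (by omega) hpB hx, one_mul, pow_mul]
  exact pk_lt fun i _ => Nat.mod_lt _ (by positivity)

include hW hd hB hs

theorem app_pack {c : List ℕ} (hc : colsOKp (2 ^ W) p 1 d (idc (2 ^ W) d) c = true) {xs : List ℕ}
    (hx : ∀ x ∈ xs, red (2 ^ W) p (1 * d) x = x) :
    redB p (ones W (d * xs.length)) steps (linB W ((2 ^ W - 1) * ones (W * d) xs.length) c (pack (W * d) xs)) =
      pack (W * d) (xs.map (app1 (2 ^ W) p (1 * d) c)) := by
  unfold colsOKp at hc
  rw [band_eq, band_eq, beq_iff, allL_iff] at hc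
  have h1 : c.length = 1 * d := hc.1
  have h2 : ∀ x ∈ c, red (2 ^ W) p (1 * d) x = x := fun x h => (beq_iff _ _).1 (hc.2.1 x h)
  unfold redOK at hs
  rw [band_eq, allL_iff, allLt_iff] at hs
  have hx' : ∀ k < xs.length, red (2 ^ W) p (1 * d) (xs.getD k 0) = xs.getD k 0 := fun k hk => by
    rw [List.getD_eq_getElem _ _ hk]; exact hx _ (List.getElem_mem _)
  have hlt : ∀ k < xs.length, xs.getD k 0 < 2 ^ (W * d) := fun k hk => lt_of_red hp hpB (hx' k hk)
  have hbd : ∀ k < xs.length, ∀ i < d, dig (2 ^ W) (linp (2 ^ W) c (xs.getD k 0)) i ≤ d * (p - 1) ^ 2 :=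
    fun k hk i hi => by
      rw [dig_linp (by omega) hB hpB h1 h2 (hx' k hk) (by omega), one_mul]
      calc _ ≤ ∑ _j ∈ range d, (p - 1) ^ 2 := sum_le_sum fun j hj => by
            have hj := mem_range.1 hj
            rw [sq]
            refine Nat.mul_le_mul (Nat.le_sub_one_of_lt (dig_lt_of_red (by omega) hpB (hx' k hk) (by omega)))
              (Nat.le_sub_one_of_lt (dig_lt_of_red (D := 1 * d) (by omega) hpB ?_ (by omega)))
            rw [List.getD_eq_getElem _ _ (by omega)]; exact h2 _ (List.getElem_mem _)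
        _ = _ := by simp
  have hl : ∀ k < xs.length, linp (2 ^ W) c (xs.getD k 0) =
      pk (2 ^ W) d (dig (2 ^ W) (linp (2 ^ W) c (xs.getD k 0))) := fun k hk => by
    refine eq_pk ?_
    rw [linp_eq, h1, one_mul]
    calc _ ≤ ∑ j ∈ range d, (p - 1) * pk (2 ^ W) d (fun _ => p - 1) := sum_le_sum fun j hj => by
          have hj := mem_range.1 hj
          have h3 : red (2 ^ W) p (1 * d) (c.getD j 0) = c.getD j 0 := by
            rw [List.getD_eq_getElem _ _ (by omega)]; exact h2 _ (List.getElem_mem _)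
          refine Nat.mul_le_mul (Nat.le_sub_one_of_lt (dig_lt_of_red (by omega) hpB (hx' k hk) (by omega))) ?_
          rw [eq_pk_of_red (by omega) hpB h3, one_mul]
          exact sum_le_sum fun i hi => Nat.mul_le_mul_right _
            (Nat.le_sub_one_of_lt (dig_lt_of_red (by omega) hpB h3 (by simpa using hi)))
      _ = pk (2 ^ W) d fun _ => 1 * d * (p - 1) ^ 2 := by
          rw [sum_const, card_range, smul_eq_mul, mul_pk, mul_pk]; exact pk_congr fun _ _ => by ring
      _ < _ := pk_lt fun _ _ => hB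
  rw [linB_eq hW hd c (by rw [pack_eq]; exact pk_lt hlt), pk_congr (g := fun k =>
    pk (2 ^ W) d (dig (2 ^ W) (linp (2 ^ W) c (xs.getD k 0)))) (fun k hk => by
      rw [linp_mod h1, one_mul, ← pow_mul 2 W d, ← hl k hk, pack_eq]
      exact congrArg _ (dig_pk hlt hk)), pow_mul, pk_flat hd,
    redB_eq hW steps (fun q hq => (ble_iff _ _).1 (hs.1 q hq)) (fun i hi => hs.2 _ (Nat.lt_succ_of_le
      (hbd _ (Nat.div_lt_of_lt_mul hi) _ (Nat.mod_lt _ hd)))),
    ← pk_flat hd xs.length fun k i => dig (2 ^ W) (linp (2 ^ W) c (xs.getD k 0)) i % p, pack_eq, List.length_map, pow_mul]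
  refine pk_congr fun k hk => ?_
  rw [List.getD_eq_getElem _ _ hk, List.getD_eq_getElem _ _ (by simpa using hk), List.getElem_map, app1, red_eq]
  simp only [one_mul]

theorem mapw_eq {tabs : List (List ℕ)} (hc : tabsOK (2 ^ W) p d tabs = true) (w : List ℕ) {xs : List ℕ}
    (hx : ∀ x ∈ xs, red (2 ^ W) p (1 * d) x = x) :
    mapw W p d steps tabs w xs = xs.map (evp (apppT (2 ^ W) p (1 * d) tabs (idc (2 ^ W) d)) w) := by
  have key : (∀ x ∈ xs.map (evp (apppT (2 ^ W) p (1 * d) tabs (idc (2 ^ W) d)) w), red (2 ^ W) p (1 * d) x = x) ∧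
      evp (fun a X => redB p (ones W (d * xs.length)) steps (linB W ((2 ^ W - 1) * ones (W * d) xs.length)
      (nth tabs (idc (2 ^ W) d) a) X)) w (pack (W * d) xs) =
        pack (W * d) (xs.map (evp (apppT (2 ^ W) p (1 * d) tabs (idc (2 ^ W) d)) w)) := by
    induction w with
    | nil => exact ⟨by simpa using hx, congrArg (pack (W * d)) (List.map_id' xs).symm⟩
    | cons a w ih =>
      have := app_pack hp hW hd hB hpB hs ((allL_iff _ _).1 ((band_eq _ _).1 hc).1 _ (nth_mem_cons _ _ a)) ih.1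
      rw [List.length_map, List.map_map] at this
      refine ⟨fun x hx => ?_, by rw [evp_cons, ih.2, this]; rfl⟩
      obtain ⟨y, -, rfl⟩ := List.mem_map.1 hx
      exact red_red (by omega) hpB _
  have := unpack_pack fun x h => lt_of_red hp hpB (key.1 x h)
  rw [List.length_map, ← key.2] at this
  unfold mapw
  simp only [force_eq]
  exact this

end

end Cfsg.Agent.SpO
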