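import Cfsg.Agent.Lib.SpO.Gen

/-! The class of an element centralising a Sylow subgroup, in a group with a centre. -/

set_option autoImplicit false

namespace Cfsg.Agent.SpO
open Cfsg.Agent.CG

variable {G X : Type*} [Group G] [MulAction G X] [Finite G] {A : Act G X} {B : List ℕ}

theorem aut_cent {S : List ℕ} {F : List (List ℕ)} {r n : ℕ} (hr : r.Prime)
    (hS : Nat.card (cl A.gen S) = r ^ n) (hn : ¬ r ^ (n + 1) ∣ Nat.card G)
    (hF : ∀ g ∈ Subgroup.centralizer (cl A.gen S : Set G), ∃ φ ∈ F, g = ev A.gen φ) {z : G}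
    (hz : ∀ s ∈ S, A.gen s * z = z * A.gen s) (φ : MulAut G) : ∃ g, ∃ ψ ∈ F, φ z = g * ev A.gen ψ * g⁻¹ := by
  have hz : cl A.gen S ≤ Subgroup.centralizer {z} :=
    cl_le _ fun s hs => Subgroup.mem_centralizer_singleton_iff.2 (hz s hs)
  obtain ⟨g, hg⟩ := exists_conj_of_card hr (H := (cl A.gen S).map φ.toMonoidHom) (K := cl A.gen S)
    (by rw [Subgroup.card_map_of_injective φ.injective, hS]) hS hn
  have hy : g⁻¹ * φ z * g ∈ Subgroup.centralizer (cl A.gen S : Set G) := by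
    rw [Subgroup.mem_centralizer_iff]
    intro x hx
    obtain ⟨x', hx', e⟩ := hg x hx
    have e : φ x' = g * x * g⁻¹ := e
    have c := congrArg φ (Subgroup.mem_centralizer_singleton_iff.1 (hz hx'))
    rw [map_mul, map_mul, e] at c
    calc x * (g⁻¹ * φ z * g) = g⁻¹ * (g * x * g⁻¹ * φ z) * g := by group
      _ = _ := by rw [c]; group
  obtain ⟨ψ, hψ, e4⟩ := hF _ hy
  exact ⟨g, ψ, hψ, by rw [← e4]; group⟩

/-- As `classChk`, the word `ζ` being allowed as well. -/
noncomputable def classChk' (app : ℕ → ℕ → ℕ) (B : List ℕ) (t o z : ℕ) (v : List ℕ) (S : List ℕ)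
    (F U : List (List ℕ)) (ζ : List ℕ) : Bool :=
  band (eqW app B (repL o t) []) (band (bnot (eqW app B [t] []))
    (band (eqW app B (app2 v [z]) (t :: v)) (band (allL (fun s => eqW app B [s, z] [z, s]) S)
      (allL (fun φ => bor (eqW app B φ []) (bor (eqW app B φ ζ) (bor (bnot (eqW app B (powL o φ) []))
        (anyL (fun u => eqW app B (app2 u φ) (t :: u)) U)))) F))))

theorem aut_class' (hB : A.IsBase B) {t o z : ℕ} {v S : List ℕ} {F U : List (List ℕ)} {r n : ℕ} (hr : r.Prime)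
    (hS : Nat.card (cl A.gen S) = r ^ n) (hn : ¬ r ^ (n + 1) ∣ Nat.card G)
    (hF : ∀ g ∈ Subgroup.centralizer (cl A.gen S : Set G), ∃ φ ∈ F, g = ev A.gen φ) {ζ : List ℕ}
    (hζ : ev A.gen ζ ∈ Subgroup.center G) {s : ℕ} (hs : eqW A.app B [s, t] [t, s] = false)
    (h : classChk' A.app B t o z v S F U ζ = true) (φ : MulAut G) : ∃ g : G, φ (A.gen t) = g * A.gen t * g⁻¹ := by
  unfold classChk' at h
  rw [band_eq, band_eq, band_eq, band_eq, bnot_eq, allL_iff, allL_iff] at h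
  obtain ⟨h1, h2, h3, h4, h5⟩ := h
  have e1 : A.gen t ^ o = 1 := by rw [← ev_repL]; exact hB.ev_eq h1
  have e2 : A.gen t ≠ 1 := by simpa using A.ev_ne_of_eqW hB.1 h2
  have e3 := hB.ev_eq h3
  rw [app2_eq, ev_append, ev_cons, ev_cons, ev_nil, mul_one] at e3
  set w := ev A.gen v
  have e3' : A.gen t = w * A.gen z * w⁻¹ := by rw [e3]; group
  obtain ⟨g, ψ, hψ, e4⟩ := aut_cent hr hS hn hF (z := A.gen z) (fun s hs => by simpa using hB.ev_eq (h4 s hs)) φ
  have e5 : φ (A.gen t) = (φ w * g) * ev A.gen ψ * (φ w * g)⁻¹ := by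
    rw [e3', map_mul, map_mul, map_inv, e4]; group
  have := h5 ψ hψ
  rw [bor_eq, bor_eq, bor_eq, bnot_eq, anyL_iff] at this
  rcases this with h6 | h6 | h6 | ⟨u, -, h6⟩
  · rw [hB.ev_eq h6] at e5
    exact absurd (by simpa using e5) e2
  · exfalso
    rw [hB.ev_eq h6, Subgroup.mem_center_iff.1 hζ, mul_inv_cancel_right] at e5
    refine A.ev_ne_of_eqW hB.1 hs (φ.injective ?_)
    simpa [e5] using Subgroup.mem_center_iff.1 hζ _
  · exfalso
    apply A.ev_ne_of_eqW hB.1 h6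
    rw [ev_powL, ev_nil]
    have : φ (A.gen t) ^ o = 1 := by rw [← map_pow, e1, map_one]
    rw [e5, conj_pow] at this
    exact conj_eq_one_iff.1 this
  · have := hB.ev_eq h6
    rw [app2_eq, ev_append, ev_cons] at this
    refine ⟨φ w * g * (ev A.gen u)⁻¹, ?_⟩
    have e6 : ev A.gen ψ = (ev A.gen u)⁻¹ * A.gen t * ev A.gen u := by rw [mul_assoc, ← this]; group
    rw [e5, e6]; group

theorem mem_center_of {S : List ℕ} (hB : A.IsBase B) (hS : cl A.gen S = ⊤) {ζ : List ℕ}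
    (h : allL (fun s => eqW A.app B (s :: ζ) (app2 ζ [s])) S = true) : ev A.gen ζ ∈ Subgroup.center G :=
  Subgroup.mem_center_iff.2 fun g => Subgroup.mem_centralizer_singleton_iff.1
    (cl_le (H := Subgroup.centralizer {ev A.gen ζ}) _ (fun s hs => Subgroup.mem_centralizer_singleton_iff.2 (by
      simpa [app2_eq] using hB.ev_eq ((allL_iff _ _).1 h s hs))) (hS ▸ Subgroup.mem_top g))

omit [Finite G] in
theorem mem_cent_cl {gen : ℕ → G} {S : List ℕ} {g : G} (h : ∀ s ∈ S, gen s * g = g * gen s) :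
    g ∈ Subgroup.centralizer (cl gen S : Set G) := fun _ hx =>
  Subgroup.mem_centralizer_singleton_iff.1
    (cl_le (H := Subgroup.centralizer {g}) _ (fun s hs => Subgroup.mem_centralizer_singleton_iff.2 (h s hs)) hx)

end Cfsg.Agent.SpO
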