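import Cfsg.Agent.Lib.DC.Pres
import Cfsg.Agent.Lib.Id.LinP

/-! Groups with a double coset cover over a table group and a matrix model: common tools. -/

set_option autoImplicit false

namespace Cfsg.Agent.SpO
open Cfsg.Agent.CG Cfsg.Agent.DC Cfsg.Agent.TCX Cfsg.Agent.Id Cfsg.Spor

/-! ### Letters -/

section lt
variable {H Γ : Type*} [Group H] [Group Γ] (gen : ℕ → H) (f : H →* Γ) (t : Γ) (r : ℕ)

/-- The basic letters of the model, the extra letter and its inverse. -/
def lt (a : ℕ) : Γ := if a < r then f (gen a) else if a = r then t else if a = r + 1 then t⁻¹ else 1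

theorem lt_self : lt gen f t r r = t := by simp [lt]

theorem lt_succ : lt gen f t r (r + 1) = t⁻¹ := by simp [lt]

variable {r} in
theorem lt_lt {a : ℕ} (h : a < r) : lt gen f t r a = f (gen a) := if_pos h

variable {r} in
theorem ev_lt {w : List ℕ} (h : ltAll r w = true) : ev (lt gen f t r) w = f (ev gen w) := by
  rw [map_ev]
  exact ev_congr _ fun a ha => lt_lt gen f t ((blt_iff _ _).1 ((allL_iff _ _).1 h a ha))

/-- From tokens to letters. -/
def tm (r a : ℕ) : ℕ := if a < 256 then a else r + (a - 256)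

/-- The tokens of a word are basic letters or the extra letter. -/
noncomputable def tkOK (r : ℕ) (w : List ℕ) : Bool :=
  allL (fun a => bor (blt a r) (bor (Nat.beq a 256) (Nat.beq a 257))) w

variable {r} in
theorem ev_tok (hr : r ≤ 256) {w : List ℕ} (h : tkOK r w = true) :
    ev (tokv gen f fun _ => t) w = ev (lt gen f t r) (w.map (tm r)) := by
  have : ev (lt gen f t r) (w.map (tm r)) = ev (fun a => lt gen f t r (tm r a)) w := by simp [ev, Function.comp_def]
  rw [this]
  refine ev_congr _ fun a ha => ?_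
  have := (allL_iff _ _).1 h a ha
  rw [bor_eq, bor_eq, blt_iff, beq_iff, beq_iff] at this
  rcases this with h | rfl | rfl
  · have h' : a < 256 := by omega
    simp [tokv, tm, h', lt, h]
  · exact (tk_even (fun _ => t) 0).trans (lt_self gen f t r).symm
  · exact (tk_odd (fun _ => t) 0).trans (lt_succ gen f t r).symm

theorem tm_lt {w : List ℕ} (h : tkOK r w = true) (hr : r ≤ 256) : ∀ a ∈ w.map (tm r), a < r + 2 := by
  intro a ha
  obtain ⟨b, hb, rfl⟩ := List.mem_map.1 ha
  have := (allL_iff _ _).1 h b hb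
  rw [bor_eq, bor_eq, blt_iff, beq_iff, beq_iff] at this
  unfold tm
  split_ifs <;> omega

end lt

section pres
variable {α : Type} [DecidableEq α] {edges : List (α × ℕ × α)} {extra : List (FreeGroup α)}
  {H : Type*} [Group H] {gen : ℕ → H} {iv : ℕ → ℕ} {R R' : List (List ℕ)} {S : List ℕ}
  {code : α → ℕ} {ws : List (List ℕ)}

theorem top_of_model {f : H →* CoxPresented α edges extra} {t : CoxPresented α edges extra} {wd : α → List ℕ}
    (h : ∀ g, ev (tokv gen f fun _ => t) (wd g) = PresentedGroup.of g) :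
    Subgroup.closure (Set.range f ∪ {t}) = ⊤ := by
  rw [eq_top_iff, ← PresentedGroup.closure_range_of, Subgroup.closure_le]
  rintro _ ⟨g, rfl⟩
  rw [← h]; exact tokv_mem _

/-- A homomorphism from the presented group, given on the letters. -/
theorem exists_hom {N r : ℕ} (hb : Bounds R S N) (hR : ∀ v ∈ R, ev gen v = 1) (hS : cl gen S = ⊤)
    (hN : N ≤ Nat.card H) (hiv : ∀ a, gen (iv a) = (gen a)⁻¹) (h256 : ∀ a, a < 256 → iv a < 256)
    {φ : H →* CoxPresented α edges extra} {t : CoxPresented α edges extra}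
    (h : ∀ g, ev (tokv gen φ fun _ => t) (sbW iv ws (code g)).1 = PresentedGroup.of g)
    {hs : List (ℕ × Bool × List ℕ)} (e1 : dersChk (invTok iv) (R ++ R') (relS edges extra code iv ws) hs = true)
    (e2 : allL (allL fun a => blt a 256) R = true) (hr : r ≤ 256) (e3 : eqL S (rangeL 0 r) = true)
    (e4 : allL (tkOK r) R' = true) (gi : ℕ → α)
    (e5 : allLt (fun a => bor (Nat.beq (code (gi a)) a) (Nat.beq (code (gi a)) (iv a))) r = true)
    (g0 : α) (e6 : (sbW iv ws (code g0)).1 = [256])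
    {Γ : Type*} [Group Γ] (y : ℕ → Γ) (y1 : ∀ v ∈ R, ev y v = 1) (y2 : ∀ v ∈ R', ev y (v.map (tm r)) = 1)
    (y3 : y (r + 1) = (y r)⁻¹) (y4 : ∀ a, r + 2 ≤ a → y a = 1) :
    ∃ ρ : CoxPresented α edges extra →* Γ, ∀ a, ρ (lt gen φ t r a) = y a := by
  obtain ⟨f, hf⟩ := hb.lift hR hS hN y y1
  have hf' : ∀ a, a < r → f (gen a) = y a := fun a ha =>
    hf a ((eqL_iff _ _).1 e3 ▸ mem_rangeL (Nat.zero_le _) (by omega))
  have l1 : ∀ a, lt gen f (y r) r a = y a := fun a => by
    unfold lt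
    split_ifs with h1 h2 h3
    · exact hf' a h1
    · rw [h2]
    · rw [h3, y3]
    · exact (y4 a (by omega)).symm
  have k0 := tokv_inv gen f (fun _ => y r) hiv h256
  have k1 : ∀ v ∈ R ++ R', ev (tokv gen f fun _ => y r) v = 1 := fun v h => by
    rcases List.mem_append.1 h with h | h
    · rw [← map_one f, ← hR v h, map_ev]
      exact ev_congr _ fun a ha => if_pos ((blt_iff _ _).1 ((allL_iff _ _).1 ((allL_iff _ _).1 e2 v h) a ha))
    · rw [ev_tok gen f _ hr ((allL_iff _ _).1 e4 v h), funext l1, y2 v h]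
  have k2 := ders_sound k0 k1 e1
  have k3 := fun w => rel_sbW (gen := gen) (f := f) (τ := fun _ => y r) hz_one hiv h256 ws w
  simp only [zv_one, one_mul] at k3
  have k4 := (relWords_iff (code := code) (tokv_inv gen f (fun j => ev (tokv gen f fun _ => y r) (ws.getD j [])) hiv
    h256) edges extra).1 fun r hr => by rw [k3]; exact k2 _ (List.mem_map_of_mem hr)
  have k5 : ∀ g, PresentedGroup.toGroup k4 (ev (tokv gen φ fun _ => t) (sbW iv ws (code g)).1) =
      ev (tokv gen f fun _ => y r) (sbW iv ws (code g)).1 := fun g => by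
    have := k3 [code g]
    simp only [ev_singleton, subT, List.append_nil] at this
    rw [h, PresentedGroup.toGroup.of, this]
  have k6 : PresentedGroup.toGroup k4 t = y r := by
    have := k5 g0
    rw [e6, ev_singleton, ev_singleton] at this
    exact (congrArg _ (tk_even (fun _ => t) 0).symm).trans (this.trans (tk_even (fun _ => y r) 0))
  refine ⟨PresentedGroup.toGroup k4, fun a => ?_⟩
  rw [← l1 a]
  unfold lt
  split_ifs with h1 h2 h3
  · have := (allLt_iff _ _).1 e5 a h1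
    have k := k5 (gi a)
    rw [bor_eq, beq_iff, beq_iff] at this
    have h' : a < 256 := by omega
    rcases this with e | e
    · rw [e] at k; simpa [sbW, tokv, h'] using k
    · rw [e] at k; simpa [sbW, tokv, h256 a h', hiv] using k
  · exact k6
  · rw [map_inv, k6]
  · exact map_one _

end pres

/-! ### The cover -/

section cover
variable {H X Γ : Type*} [Group H] [MulAction H X] [Group Γ] {A : Act H X} {facts : Tr Fact} {nd : ℕ → ℕ}
  {f : H →* Γ}

theorem cover_of [Finite H] {M : Subgroup Γ} [Finite M] {τ : ℕ → Γ} {t : Γ} {fin : List ℕ} (h0 : 0 ∈ fin)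
    (h : ∀ e ∈ fin, ∀ g, ∃ e' ∈ fin, ∃ μ ∈ M, ∃ h, cn A facts nd f τ e * f g * t = μ * cn A facts nd f τ e' * f h)
    (htop : Subgroup.closure (Set.range f ∪ {t}) = ⊤) (g : Γ) :
    ∃ e ∈ fin, ∃ μ ∈ M, ∃ h, g = μ * cn A facts nd f τ e * f h := by
  let S : Set Γ := Set.range fun x : M × {e // e ∈ fin} × H => (x.1 : Γ) * cn A facts nd f τ x.2.1 * f x.2.2
  have hS : S.Finite := Set.finite_range _
  have := closure_subset_of_finite (T := Set.range f ∪ {t}) hS ⟨(1, ⟨0, h0⟩, 1), by simp [cn_zero]⟩ (by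
    rintro t' (⟨g, rfl⟩ | rfl) _ ⟨⟨μ, ⟨e, he⟩, g'⟩, rfl⟩
    · exact ⟨(μ, ⟨e, he⟩, g' * g), by simp [mul_assoc]⟩
    · obtain ⟨e', h1, μ', h2, g, h3⟩ := h e he g'
      refine ⟨(μ * ⟨μ', h2⟩, ⟨e', h1⟩, g), ?_⟩
      simp only [Subgroup.coe_mul]
      rw [mul_assoc (μ : Γ), mul_assoc (μ : Γ), mul_assoc (μ : Γ), mul_assoc (μ : Γ), h3])
  obtain ⟨⟨μ, ⟨e, he⟩, h⟩, e1⟩ := this (htop ▸ Subgroup.mem_top g)
  exact ⟨e, he, μ, μ.2, h, e1.symm⟩

/-- The word of a node: that of its parent, a word of the model, the extra letter. -/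
noncomputable def nodeChk (app : ℕ → ℕ → ℕ) (B : List ℕ) (facts : Tr Fact) (nd : ℕ → ℕ) (r : ℕ) (ns : List ℕ)
    (cw uw : ℕ → List ℕ) (n : ℕ) : Bool :=
  band (blt (fe (facts.get (nd n)).hd) n) (band (Nat.beq (feps (facts.get (nd n)).hd) 1)
    (band (memL (fe (facts.get (nd n)).hd) (0 :: ns)) (band (ltAll r (uw n))
      (band (eqL (cw n) (app2 (cw (fe (facts.get (nd n)).hd)) (app2 (uw n) [r])))
        (apW app (facts.get (nd n)).u B fun l => apL app (uw n) B fun l' => eqL l l')))))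

theorem cn_eq {B : List ℕ} (hB : A.IsBase B) {t : Γ} {r : ℕ} {ns : List ℕ} {cw uw : ℕ → List ℕ} (h0 : cw 0 = [])
    (e : allL (nodeChk A.app B facts nd r ns cw uw) ns = true) :
    ∀ n ∈ 0 :: ns, cn A facts nd f (fun _ => t) n = ev (lt A.gen f t r) (cw n) := by
  intro n
  induction n using Nat.strong_induction_on with
  | _ n ih =>
    intro hn
    rcases List.mem_cons.1 hn with rfl | hn
    · rw [cn_zero, h0, ev_nil]
    have := (allL_iff _ _).1 e n hn
    unfold nodeChk at this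
    rw [band_eq, band_eq, band_eq, band_eq, band_eq, blt_iff, beq_iff, memL_iff, eqL_iff, app2_eq, app2_eq] at this
    obtain ⟨h1, h2, h3, h4, h5, h6⟩ := this
    obtain ⟨l, a1, a2⟩ := apW_spec (PL.one hB.1) h6
    obtain ⟨l', a3, a4⟩ := apL_spec (PL.one hB.1) a2
    rw [eqL_iff] at a4
    subst a4
    have b := a1.eq hB a3
    rw [mul_one, mul_one] at b
    rw [cn, if_pos h1, ih _ h1 h3, h2, h5, ev_append, ev_append, ev_lt _ _ _ h4, b, ev_singleton, lt_self, mul_assoc]
    rfl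

theorem cover_words {B : List ℕ} (hB : A.IsBase B) {t : Γ} {r : ℕ} {ns : List ℕ} {cw uw : ℕ → List ℕ}
    (h0 : cw 0 = []) (e : allL (nodeChk A.app B facts nd r ns cw uw) ns = true) {M : Subgroup Γ} {fin : List ℕ}
    (e2 : allL (fun n => memL n (0 :: ns)) fin = true)
    (h : ∀ g, ∃ e ∈ fin, ∃ μ ∈ M, ∃ h, g = μ * cn A facts nd f (fun _ => t) e * f h) (g : Γ) :
    ∃ w ∈ fin.map cw, ∃ μ ∈ M, ∃ h, g = μ * ev (lt A.gen f t r) w * f h := by
  obtain ⟨e', h1, μ, h2, k, h3⟩ := h g
  exact ⟨_, List.mem_map_of_mem h1, μ, h2, k, by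
    rw [← cn_eq hB h0 e e' ((memL_iff _ _).1 ((allL_iff _ _).1 e2 e' h1)), h3]⟩

/-- The elements of the stabiliser of the first base point pass the extra letter. -/
theorem pass_of {t : Γ} {g : H} (h : g ∈ passes f t ⊥) : ∃ k, f g * t = t * f k := by
  obtain ⟨ζ, h1, -, k, h2⟩ := h
  rw [Subgroup.mem_bot.1 h1, one_mul] at h2
  exact ⟨k, h2⟩

end cover

/-! ### Forests -/

/-- A point is a root or is carried by a letter to a point of smaller rank. -/
noncomputable def treeChk (app : ℕ → ℕ → ℕ) (m : ℕ) (roots : List ℕ) (tb : ℕ → ℕ) (w i : ℕ) : Bool :=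
  force (Nat.mul w i) fun x => force (tb x) fun en =>
    Nat.rec (motive := fun _ => Bool) (memL x roots)
      (fun k _ => force (Nat.shiftRight en 8) fun a => band (bit m a) (Nat.ble (Nat.land (tb (app a x)) 255) k))
      (Nat.land en 255)

/-- The check of a forest on a range of points. -/
noncomputable def treeAll (app : ℕ → ℕ → ℕ) (S roots : List ℕ) (tb : ℕ → ℕ) (w lo cnt : ℕ) : Bool :=
  force (maskOf S) fun m => allRange (treeChk app m roots tb w) lo cnt

theorem treeAll_append {app : ℕ → ℕ → ℕ} {S roots : List ℕ} {tb : ℕ → ℕ} {w lo c d : ℕ}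
    (h1 : treeAll app S roots tb w lo c = true) (h2 : treeAll app S roots tb w (lo + c) d = true) :
    treeAll app S roots tb w lo (c + d) = true := by
  unfold treeAll at *
  rw [force_eq] at *
  exact allRange_append h1 h2

section
variable {H X : Type*} [Group H] [MulAction H X] {A : Act H X} {n w : ℕ}

theorem forest (hok : ∀ x, A.ok x ↔ okc n w x) (hs : ∀ p : X, ∃ i, i < n ∧ p = A.pt (w * i)) {S roots : List ℕ}
    {tb : ℕ → ℕ} (e : treeAll A.app S roots tb w 0 n = true) (p : X) :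
    ∃ k ∈ cl A.gen S, ∃ x ∈ roots, A.ok x ∧ k • p = A.pt x := by
  unfold treeAll at e
  rw [force_eq, allRange_iff] at e
  suffices key : ∀ rk x, A.ok x → Nat.land (tb x) 255 = rk →
      ∃ k ∈ cl A.gen S, ∃ y ∈ roots, A.ok y ∧ k • A.pt x = A.pt y by
    obtain ⟨i, h1, rfl⟩ := hs p
    exact key _ _ ((hok _).2 ⟨i, h1, rfl⟩) rfl
  intro rk
  induction rk using Nat.strong_induction_on with
  | _ rk ih =>
    intro x hx hr
    obtain ⟨i, hi, rfl⟩ := (hok _).1 hx
    have e1 := e i (Nat.zero_le _) (by omega)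
    unfold treeChk at e1
    rw [force_eq, force_eq] at e1
    have hr' : Nat.land (tb (Nat.mul w i)) 255 = rk := hr
    rw [hr'] at e1
    cases rk with
    | zero => exact ⟨1, one_mem _, _, (memL_iff _ _).1 e1, hx, one_smul _ _⟩
    | succ rk =>
      simp only [force_eq, band_eq, ble_iff, bit_maskOf] at e1
      obtain ⟨k, k1, y, k2, k3, k4⟩ := ih _ (Nat.lt_succ_of_le e1.2) _ (A.ok_app _ _ hx) rfl
      exact ⟨k * A.gen _, mul_mem k1 (gen_mem_cl _ e1.1), y, k2, k3, by rw [mul_smul, A.smul_pt _ _ hx]; exact k4⟩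

/-- Every element carries the point `b` into the orbit of a listed word's image. -/
theorem forest_word (hok : ∀ x, A.ok x ↔ okc n w x) (hs : ∀ p : X, ∃ i, i < n ∧ p = A.pt (w * i)) {S : List ℕ}
    {b : ℕ} (hb : A.ok b) {U : List (List ℕ)} {roots : List ℕ} (e0 : roots = U.map fun u => evp A.app u b)
    {tb : ℕ → ℕ} (e : treeAll A.app S roots tb w 0 n = true) (h : H) :
    ∃ k ∈ cl A.gen S, ∃ u ∈ U, ∃ s, s • A.pt b = A.pt b ∧ k * h = ev A.gen u * s := by
  obtain ⟨k, k1, x, k2, -, k4⟩ := forest hok hs e (h • A.pt b)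
  rw [e0] at k2
  obtain ⟨u, hu, rfl⟩ := List.mem_map.1 k2
  refine ⟨k, k1, u, hu, (ev A.gen u)⁻¹ * (k * h), ?_, by group⟩
  rw [mul_smul, mul_smul, k4, ← A.ev_smul u hb, inv_smul_smul]

/-- The points fixed by all letters of `S` are listed. -/
noncomputable def fixAll (app : ℕ → ℕ → ℕ) (S F : List ℕ) (w lo cnt : ℕ) : Bool :=
  allRange (fun i => force (Nat.mul w i) fun x => bor (anyL (fun a => bnot (Nat.beq (app a x) x)) S) (memL x F)) lo cnt

theorem fixAll_append {app : ℕ → ℕ → ℕ} {S F : List ℕ} {w lo c d : ℕ} (h1 : fixAll app S F w lo c = true)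
    (h2 : fixAll app S F w (lo + c) d = true) : fixAll app S F w lo (c + d) = true := allRange_append h1 h2

theorem fix_mem (hok : ∀ x, A.ok x ↔ okc n w x) (hs : ∀ p : X, ∃ i, i < n ∧ p = A.pt (w * i)) {S F : List ℕ}
    (e : fixAll A.app S F w 0 n = true) {p : X} (hp : ∀ a ∈ S, A.gen a • p = p) : ∃ x ∈ F, p = A.pt x := by
  obtain ⟨i, hi, rfl⟩ := hs p
  have hx : A.ok (w * i) := (hok _).2 ⟨i, hi, rfl⟩
  have := (allRange_iff _ _ _).1 e i (Nat.zero_le _) (by omega)
  rw [force_eq, bor_eq, anyL_iff, memL_iff] at this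
  rcases this with ⟨a, ha, h⟩ | h
  · rw [bnot_eq, beq_false_iff] at h
    exact absurd (A.inj _ _ (A.ok_app a _ hx) hx (by rw [← A.smul_pt a _ hx]; exact hp a ha)) h
  · exact ⟨_, h, rfl⟩

theorem fix_word (hok : ∀ x, A.ok x ↔ okc n w x) (hs : ∀ p : X, ∃ i, i < n ∧ p = A.pt (w * i)) {S : List ℕ}
    {b : ℕ} (hb : A.ok b) {U : List (List ℕ)} {F : List ℕ} (e0 : F = U.map fun u => evp A.app u b)
    (e : fixAll A.app S F w 0 n = true) {h : H} (hp : ∀ a ∈ S, (h⁻¹ * A.gen a * h) • A.pt b = A.pt b) :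
    ∃ u ∈ U, ∃ s, s • A.pt b = A.pt b ∧ h = ev A.gen u * s := by
  obtain ⟨x, k2, k3⟩ := fix_mem hok hs e (p := h • A.pt b) fun a ha => by
    have := hp a ha
    rwa [mul_smul, mul_smul, inv_smul_eq_iff] at this
  rw [e0] at k2
  obtain ⟨u, hu, rfl⟩ := List.mem_map.1 k2
  refine ⟨u, hu, (ev A.gen u)⁻¹ * h, ?_, by group⟩
  rw [mul_smul, k3, ← A.ev_smul u hb, inv_smul_smul]

end

/-! ### Extended alphabets -/

theorem appT_congr {tabs tabs' : List ℕ} {d M k : ℕ} (h : tabs'.take k = tabs) (hk : tabs.length = k) :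
    ∀ a, a < k → appT tabs' d M a = appT tabs d M a := fun a ha => by
  funext x
  unfold appT
  rw [nth_eq, nth_eq, ← h, List.getD_eq_getElem?_getD, List.getD_eq_getElem?_getD, List.getElem?_take_of_lt ha]

theorem appB_congr {tabs tabs' : List (Tr ℕ)} {d : Tr ℕ} {M k : ℕ} (h : tabs'.take k = tabs) :
    ∀ a, a < k → appB tabs' d M a = appB tabs d M a := fun a ha => by
  funext x
  unfold appB
  rw [nth_eq, nth_eq, ← h, List.getD_eq_getElem?_getD, List.getD_eq_getElem?_getD, List.getElem?_take_of_lt ha]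

section
variable {G X : Type*} [Group G] [MulAction G X] {A : Act G X} {n w : ℕ} {app : ℕ → ℕ → ℕ} {k k' : ℕ}
  {slp : ℕ → Bool × List ℕ}

theorem ext_mem_cl (h : ExtOK A n w app k k' slp) {T : List ℕ} {lo cnt : ℕ} (h1 : k ≤ lo)
    (h2 : lo + cnt ≤ k') (hs : slpIn slp T lo cnt = true) :
    ∀ a, lo ≤ a → a < lo + cnt → h.act.gen a ∈ cl h.act.gen T := by
  intro a
  induction a using Nat.strong_induction_on with
  | _ a ih =>
    intro ha ha'
    have := (allRange_iff _ _ _).1 hs a ha ha'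
    rw [bor_eq, memL_iff, allL_iff] at this
    rcases this with h3 | h3
    · exact gen_mem_cl _ h3
    · have hlt : ∀ b ∈ (slp a).2, b < a := fun b hb =>
        (blt_iff _ _).1 ((allL_iff _ _).1 ((allRange_iff _ _ _).1 h.lt a (by omega) (by omega)) b hb)
      have hm : ev h.act.gen (slp a).2 ∈ cl h.act.gen T := ev_mem _ fun b hb => by
        have := h3 b hb
        rw [bor_eq, memL_iff, ble_iff] at this
        rcases this with h4 | h4
        · exact gen_mem_cl _ h4
        · exact ih b (hlt b hb) h4 (by have := hlt b hb; omega)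
      change extGen A k k' slp a ∈ _
      rw [extGen_mid (by omega) (by omega) hlt]
      split_ifs
      · exact inv_mem hm
      · exact hm

theorem ext_le_card [Finite G] (h : ExtOK A n w app k k' slp) {T : List ℕ} {lo cnt : ℕ} (h1 : k ≤ lo)
    (h2 : lo + cnt ≤ k') (hs : slpIn slp T lo cnt = true) {L : List Lvl} (hC : ChainOK h.act L [])
    (h3 : chainRange lo cnt L = true) : prodN L ≤ Nat.card (cl h.act.gen T) :=
  hC.prodN_le_card_of_mem fun l hl a ha => by
    have := (allL_iff _ _).1 ((allL_iff _ _).1 h3 l hl) a ha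
    rw [band_eq, ble_iff, blt_iff] at this
    exact ext_mem_cl h h1 h2 hs a this.1 this.2

theorem ext_top [Finite G] (h : ExtOK A n w app k k' slp) {T : List ℕ} {lo cnt : ℕ} (h1 : k ≤ lo)
    (h2 : lo + cnt ≤ k') (hs : slpIn slp T lo cnt = true) {L : List Lvl} (hC : ChainOK h.act L [])
    (hN : Nat.card G ≤ prodN L) (h3 : chainRange lo cnt L = true) : cl h.act.gen T = ⊤ :=
  Subgroup.eq_top_of_le_card _ (le_trans hN (ext_le_card h h1 h2 hs hC h3))

theorem ext_ev (h : ExtOK A n w app k k' slp) {v : List ℕ} (e : ltAll k v = true) : ev h.act.gen v = ev A.gen v :=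
  ev_congr _ fun a ha => h.gen_lt ((blt_iff _ _).1 ((allL_iff _ _).1 e a ha))

end

/-! ### Sylow subgroups and automorphisms -/

section
variable {G : Type*} [Group G]

theorem not_dvd_of_norm [Finite G] {p n : ℕ} (hp : p.Prime) {K P : Subgroup G} (hP : Nat.card P = p ^ n)
    (hK : ¬ p ^ (n + 1) ∣ Nat.card K) (h : ∀ g, (∀ x ∈ P, g⁻¹ * x * g ∈ P) → g ∈ K) :
    ¬ p ^ (n + 1) ∣ Nat.card G := fun hd => by
  have := Fact.mk hp
  obtain ⟨Q, h1, h2⟩ := Sylow.exists_subgroup_card_pow_succ hd hP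
  refine hK (h1 ▸ Subgroup.card_dvd_of_le fun g hg => h g fun x hx => ?_)
  have hi : (P.subgroupOf Q).index = p := by
    have := (P.subgroupOf Q).index_mul_card
    rw [Nat.card_congr (Subgroup.subgroupOfEquivOfLe h2).toEquiv, hP, h1, pow_succ'] at this
    exact Nat.eq_of_mul_eq_mul_right (pow_pos hp.pos n) this
  have hn : (P.subgroupOf Q).Normal :=
    Subgroup.normal_of_index_eq_minFac_card (by rw [hi, h1, hp.pow_minFac (Nat.succ_ne_zero n)])
  exact hn.conj_mem' ⟨x, h2 hx⟩ hx ⟨g, hg⟩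

/-- An automorphism carries a Sylow subgroup into itself after a conjugation. -/
theorem exists_norm [Finite G] {p n : ℕ} (hp : p.Prime) {P : Subgroup G} (hP : Nat.card P = p ^ n)
    (hn : ¬ p ^ (n + 1) ∣ Nat.card G) (φ : MulAut G) :
    ∃ g, P.map (MulAut.conj g * φ : MulAut G).toMonoidHom = P := by
  have hc : ∀ ψ : MulAut G, Nat.card (P.map ψ.toMonoidHom) = Nat.card P := fun ψ =>
    Subgroup.card_map_of_injective ψ.injective
  obtain ⟨g, hg⟩ := exists_conj_of_card hp hP ((hc φ).trans hP) hn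
  refine ⟨g, Subgroup.eq_of_le_of_card_ge ?_ (hc _).ge⟩
  rintro _ ⟨x, hx, rfl⟩
  exact hg _ ⟨x, hx, rfl⟩

theorem exists_restrict {H : Type*} [Group H] [Finite H] {f : H →* G} (hf : Function.Injective f) (β : MulAut G)
    (h : ∀ x, β (f x) ∈ f.range) : ∃ γ : MulAut H, ∀ x, f (γ x) = β (f x) := by
  let ψ : H →* H := (MonoidHom.ofInjective hf).symm.toMonoidHom.comp
    ((β.toMonoidHom.comp f).codRestrict f.range h)
  have h1 : ∀ x, f (ψ x) = β (f x) := fun x =>
    congrArg Subtype.val ((MonoidHom.ofInjective hf).apply_symm_apply ⟨β (f x), h x⟩)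
  have h2 : Function.Injective ψ := fun x y e => hf (β.injective (by rw [← h1, e, h1]))
  exact ⟨MulEquiv.ofBijective ψ (Finite.injective_iff_bijective.1 h2), h1⟩

theorem inn_of_conj {φ : MulAut G} {g : G} (h : MulAut.conj g * φ ∈ Inn G) : φ ∈ Inn G :=
  (Subgroup.mul_mem_cancel_left (Inn G) (x := MulAut.conj g) ⟨g, rfl⟩).1 h

theorem card_out_one (h : ∀ φ : MulAut G, φ ∈ Inn G) : Nat.card (Out G) = 1 := by
  change (Inn G).index = 1
  rw [(Subgroup.eq_top_iff' _).2 h, Subgroup.index_top]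

theorem card_out_two {σ : MulAut G} (hσ : σ ∉ Inn G)
    (h : ∀ φ : MulAut G, ∃ g, MulAut.conj g * φ ∈ Inn G ∨ σ⁻¹ * (MulAut.conj g * φ) ∈ Inn G) :
    Nat.card (Out G) = 2 := by
  rw [Nat.card_eq_two_iff]
  refine ⟨((1 : MulAut G) : Out G), (σ : Out G), fun e => hσ (by simpa using QuotientGroup.eq.1 e), ?_⟩
  rw [Set.eq_univ_iff_forall]
  intro q
  obtain ⟨φ, rfl⟩ := QuotientGroup.mk_surjective q
  obtain ⟨g, hg | hg⟩ := h φ
  · exact Or.inl ((QuotientGroup.eq_one_iff _).2 (inn_of_conj hg))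
  · right
    have e : ((MulAut.conj g : MulAut G) : Out G) = 1 := (QuotientGroup.eq_one_iff _).2 ⟨g, rfl⟩
    rw [Set.mem_singleton_iff, QuotientGroup.eq.2 hg, QuotientGroup.mk_mul, e, one_mul]

theorem aut_ext {H : Type*} [Group H] {f : H →* G} {t : G} (htop : Subgroup.closure (Set.range f ∪ {t}) = ⊤)
    {α β : MulAut G} (h1 : ∀ x, α (f x) = β (f x)) (h2 : α t = β t) : α = β := by
  have : Subgroup.closure (Set.range f ∪ {t}) ≤ α.toMonoidHom.eqLocus β.toMonoidHom := by
    rw [Subgroup.closure_le]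
    rintro _ (⟨x, rfl⟩ | rfl)
    exacts [h1 x, h2]
  exact MulEquiv.ext fun g => this (htop ▸ Subgroup.mem_top g)

theorem hom_ext_cl {H : Type*} [Group H] {gen : ℕ → H} {S : List ℕ} (hS : cl gen S = ⊤) {φ ψ : H →* G}
    (h : ∀ a ∈ S, φ (gen a) = ψ (gen a)) (x : H) : φ x = ψ x :=
  cl_le (H := φ.eqLocus ψ) gen h (hS ▸ Subgroup.mem_top x)

end

end Cfsg.Agent.SpO
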