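import Cfsg.Agent.Lib.SpO.St
import Cfsg.Agent.Lib.SpO.Cls

/-! Small tools. -/

set_option autoImplicit false

namespace Cfsg.Agent.SpO
open Cfsg.Agent.CG Cfsg.Agent.DC

theorem map_ev' {G H : Type*} [Monoid G] [Monoid H] {φ : G →* H} {x : ℕ → G} {y : ℕ → H} (h : ∀ a, φ (x a) = y a)
    (w : List ℕ) : φ (ev x w) = ev y w := by
  rw [map_ev, funext h]

/-- An element all of whose conjugates fix a point is trivial. -/
theorem eq_one_of_fix {H X : Type*} [Group H] [MulAction H X] {A : Act H X} {B : List ℕ} (hB : A.IsBase B) {b : ℕ}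
    (hb : A.ok b) {ws : List (List ℕ)} (e : eqL (ws.map fun w => evp A.app w b) B = true) {h : H}
    (hh : ∀ k, (k⁻¹ * h * k) • A.pt b = A.pt b) : h = 1 := by
  refine hB.2 h fun x hx => ?_
  rw [← (eqL_iff _ _).1 e] at hx
  obtain ⟨w, -, rfl⟩ := List.mem_map.1 hx
  have := hh (ev A.gen w)
  rwa [mul_smul, mul_smul, inv_smul_eq_iff, A.ev_smul w hb] at this

theorem gen_fix {H X : Type*} [Group H] [MulAction H X] {A : Act H X} {b : ℕ} (hb : A.ok b) {S : List ℕ}
    (e : allL (fun a => Nat.beq (A.app a b) b) S = true) {k : H} (hk : k ∈ cl A.gen S) : k • A.pt b = A.pt b :=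
  cl_le (H := MulAction.stabilizer H (A.pt b)) _ (fun a ha => by
    rw [MulAction.mem_stabilizer_iff, A.smul_pt a b hb, (beq_iff _ _).1 ((allL_iff _ _).1 e a ha)]) hk

/-- Elements of prime order `p`, `p²` not dividing the order: one is a power of a conjugate of the other. -/
theorem conj_zpow {G : Type*} [Group G] [Finite G] {p : ℕ} (hp : p.Prime) (hn : ¬ p ^ (1 + 1) ∣ Nat.card G) {a b : G}
    (a1 : a ^ p = 1) (a2 : a ≠ 1) (b1 : b ^ p = 1) (b2 : b ≠ 1) : ∃ (k : G) (j : ℤ), k * a * k⁻¹ = b ^ j := by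
  have := _root_.Fact.mk hp
  obtain ⟨k, hk⟩ := exists_conj_of_card (n := 1) (H := Subgroup.zpowers b) (K := Subgroup.zpowers a) hp
    (by rw [Nat.card_zpowers, orderOf_eq_prime b1 b2, pow_one])
    (by rw [Nat.card_zpowers, orderOf_eq_prime a1 a2, pow_one]) hn
  obtain ⟨j, hj⟩ := hk a (Subgroup.mem_zpowers a)
  exact ⟨k, j, hj.symm⟩

theorem comm_cl {H G : Type*} [Group H] [Group G] {gen : ℕ → H} {S : List ℕ} (f : H →* G) {t : G}
    (h : ∀ s ∈ S, f (gen s) * t = t * f (gen s)) {k : H} (hk : k ∈ cl gen S) : f k * t = t * f k :=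
  Subgroup.mem_centralizer_singleton_iff.1 (cl_le (H := (Subgroup.centralizer {t}).comap f) _
    (fun s hs => Subgroup.mem_centralizer_singleton_iff.2 (h s hs)) hk)

theorem mem_cl {H G : Type*} [Group H] [Group G] {gen : ℕ → H} {S : List ℕ} (hS : cl gen S = ⊤) (f : H →* G)
    {K : Subgroup G} (h : ∀ s ∈ S, f (gen s) ∈ K) (k : H) : f k ∈ K :=
  cl_le (H := K.comap f) _ h (hS ▸ Subgroup.mem_top k)

/-- An endomorphism whose range contains the generators. -/
theorem aut_of_hom {H G : Type*} [Group H] [Group G] [Finite G] {gen : ℕ → H} {S : List ℕ} (hS : cl gen S = ⊤)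
    {f : H →* G} {t : G} (htop : Subgroup.closure (Set.range f ∪ {t}) = ⊤) (σ : G →* G)
    (h1 : ∀ s ∈ S, f (gen s) ∈ σ.range) (h2 : t ∈ σ.range) : ∃ τ : MulAut G, ∀ g, τ g = σ g := by
  have : Function.Surjective σ := by
    rw [← MonoidHom.range_eq_top, eq_top_iff, ← htop, Subgroup.closure_le]
    rintro _ (⟨x, rfl⟩ | rfl)
    · exact mem_cl hS f h1 x
    · exact h2
  exact ⟨MulEquiv.ofBijective σ (Finite.surjective_iff_bijective.1 this), fun _ => rfl⟩

end Cfsg.Agent.SpO
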