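import Cfsg.Agent.Lib.SpO.Ut

/-! Central kernels of order two. -/

set_option autoImplicit false

namespace Cfsg.Agent.SpO

theorem ker_two {Γ G P : Type*} [Group Γ] [Group G] [Group P] [Finite G] [Finite P] {p : Γ →* G}
    (hp : Function.Injective p) (q : Γ →* P) {S : Subgroup G} {Q : Subgroup P} {n : ℕ} (hn : 0 < n)
    (hS : Nat.card S ≤ 2 * n) (hQ : n ≤ Nat.card Q) (h : Q ≤ (S.comap p).map q) {z : Γ} (z1 : p z ∈ S) (z2 : q z = 1)
    (z3 : z ≠ 1) : S ≤ p.range ∧ ∀ x, p x ∈ S → q x = 1 → x = 1 ∨ x = z := by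
  have := Finite.of_injective p hp
  have h1 := (q.ker.subgroupOf (S.comap p)).card_mul_index
  have h2 : n ≤ (q.ker.subgroupOf (S.comap p)).index :=
    (hQ.trans (Subgroup.card_le_of_le h)).trans_eq (Subgroup.relIndex_ker _ q).symm
  have h3 : Nat.card ((S.comap p).map p) = Nat.card (S.comap p) := Subgroup.card_map_of_injective hp
  have h4 := Subgroup.card_le_of_le (S.map_comap_le p)
  have h5 : Nontrivial (q.ker.subgroupOf (S.comap p)) :=
    ⟨⟨⟨z, z1⟩, z2⟩, 1, fun e => z3 (congrArg (fun x => x.1.1) e)⟩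
  have h6 := Finite.one_lt_card (α := q.ker.subgroupOf (S.comap p))
  have h7 : Nat.card (q.ker.subgroupOf (S.comap p)) = 2 := by nlinarith
  refine ⟨?_, fun x x1 x2 => ?_⟩
  · rw [← Subgroup.eq_of_le_of_card_ge (S.map_comap_le p) (by rw [h3, ← h1, h7]; omega)]
    exact Subgroup.map_le_range _ _
  · obtain ⟨y, -, hy⟩ := (Nat.card_eq_two_iff' 1).1 h7
    refine or_iff_not_imp_left.2 fun x3 => congrArg (fun x => x.1.1)
      ((hy ⟨⟨x, x1⟩, x2⟩ fun e => x3 (congrArg (fun x => x.1.1) e)).trans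
        (hy ⟨⟨z, z1⟩, z2⟩ fun e => z3 (congrArg (fun x => x.1.1) e)).symm)

variable {G : Type*} [Group G]

theorem isP_of_comm {s : Set G} (h1 : ∀ x ∈ s, x * x = 1) (h2 : ∀ x ∈ s, ∀ y ∈ s, x * y = y * x) :
    IsPGroup 2 (Subgroup.closure s) := by
  have := Subgroup.isMulCommutative_closure h2
  rintro ⟨g, hg⟩
  refine ⟨1, Subtype.ext ?_⟩
  change g ^ 2 = 1
  induction hg using Subgroup.closure_induction with
  | mem x hx => rw [sq, h1 x hx]
  | one => exact one_pow _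
  | mul x y hx hy ix iy =>
    rw [Commute.mul_pow (Subgroup.mul_comm_of_mem_isMulCommutative _ hx hy), ix, iy, one_mul]
  | inv x _ ix => rw [inv_pow, ix, inv_one]

theorem norm_inv [Finite G] {p : ℕ} [Fact p.Prime] {R : Subgroup G} (hR : IsPGroup p R) {a : G} (ha : a ∈ R)
    (a1 : a ≠ 1) (hC : ∀ x, (∀ r ∈ R, r * x = x * r) → x = 1 ∨ x = a) (φ : MulAut G) :
    ∃ g, (MulAut.conj g * φ : MulAut G) a = a := by
  obtain ⟨S, hS⟩ := hR.exists_le_sylow
  have : Nontrivial S := ⟨⟨a, hS ha⟩, 1, fun e => a1 (congrArg Subtype.val e)⟩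
  have := S.isPGroup'.center_nontrivial
  obtain ⟨⟨z, hz⟩, z1⟩ := exists_ne (1 : Subgroup.center S)
  have z2 : ∀ r ∈ S, r * z.1 = z.1 * r := fun r hr => congrArg Subtype.val (Subgroup.mem_center_iff.1 hz ⟨r, hr⟩)
  rw [(hC _ fun r hr => z2 r (hS hr)).resolve_left fun e => z1 (Subtype.ext (Subtype.ext e))] at z2
  obtain ⟨g, hg⟩ := MulAction.exists_smul_eq G (φ • S) S
  refine ⟨g, (hC _ fun r hr => ?_).resolve_left (by simpa using a1)⟩
  have := hS hr
  rw [← hg, Sylow.smul_def, ← mul_smul, Sylow.pointwise_smul_def, Subgroup.mem_smul_pointwise_iff_exists] at this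
  obtain ⟨s, hs, rfl⟩ := this
  rw [MulAut.smul_def, ← map_mul, z2 s hs, map_mul]

/-- An automorphism keeping the kernel acts on the image. -/
theorem exists_quot {P : Type*} [Group P] [Finite P] {q : G →* P} (hq : Function.Surjective q) (γ : MulAut G)
    (h : ∀ x, q x = 1 → q (γ x) = 1) : ∃ ψ : MulAut P, ∀ x, ψ (q x) = q (γ x) := by
  let ψ := q.liftOfSurjective hq ⟨q.comp γ.toMonoidHom, h⟩
  have h1 : ∀ x, ψ (q x) = q (γ x) := fun x => q.liftOfRightInverse_comp_apply _ _ _ x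
  have h2 : Function.Surjective ψ := fun y => by
    obtain ⟨x, rfl⟩ := hq y
    exact ⟨q (γ.symm x), by rw [h1, γ.apply_symm_apply]⟩
  exact ⟨MulEquiv.ofBijective ψ (Finite.surjective_iff_bijective.1 h2), h1⟩

end Cfsg.Agent.SpO
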