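import Cfsg.Agent.Lib.SpO.Mat

/-! Level sets of the form `v ⬝ Z v` on an invariant finite set of vectors; tests of words on vectors. -/

set_option autoImplicit false

namespace Cfsg.Agent.SpO
open Cfsg.Agent.CG Cfsg.Agent.Id Matrix

/-- The inverse word. -/
noncomputable def ivw (inv : ℕ → ℕ) (w : List ℕ) : List ℕ := (w.map inv).reverse

theorem ev_ivw {G : Type*} [Group G] {gen : ℕ → G} {inv : ℕ → ℕ} (h : ∀ a, gen (inv a) = (gen a)⁻¹) (w : List ℕ) :
    ev gen (ivw inv w) = (ev gen w)⁻¹ := by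
  induction w with
  | nil => simp [ivw]
  | cons a w ih =>
    have : ivw inv (a :: w) = ivw inv w ++ [inv a] := by simp [ivw]
    rw [this, ev_append, ih, ev_singleton, h, ev_cons, _root_.mul_inv_rev]

theorem code_inv {ι F : Type*} [Fintype ι] [DecidableEq ι] [Field F] (c : MatCode ι F) (a : ℕ) :
    c.act.gen (c.inv a) = (c.act.gen a)⁻¹ := Units.ext rfl

/-- Two words differ at a point. -/
noncomputable def neW (app : ℕ → ℕ → ℕ) (x : ℕ) (u v : List ℕ) : Bool := bnot (Nat.beq (evp app u x) (evp app v x))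

theorem ne_of_neW {G X : Type*} [Group G] [MulAction G X] {A : Act G X} {x : ℕ} (hx : A.ok x) {u v : List ℕ}
    (h : neW A.app x u v = true) : ev A.gen u ≠ ev A.gen v :=
  A.ev_ne hx ((beq_false_iff _ _).1 ((bnot_eq _).1 h))

/-- The number of entries passing a test. -/
noncomputable def cntL {α : Type} (p : α → Bool) (l : List α) : ℕ :=
  List.rec (motive := fun _ => ℕ) 0 (fun a _ ih => Bool.rec (motive := fun _ => ℕ) ih (Nat.succ ih) (p a)) l

theorem cntL_eq {α : Type} (p : α → Bool) (l : List α) : cntL p l = l.countP p := by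
  induction l with
  | nil => rfl
  | cons a l ih =>
    have : cntL p (a :: l) = Bool.rec (motive := fun _ => ℕ) (cntL p l) (Nat.succ (cntL p l)) (p a) := rfl
    rw [this, List.countP_cons, ih]
    cases p a <;> simp

/-- The entries are distinct. -/
noncomputable def ndL (l : List ℕ) : Bool :=
  List.rec (motive := fun _ => Bool) true (fun a l ih => band (bnot (memL a l)) ih) l

theorem nodup_of_ndL {l : List ℕ} (h : ndL l = true) : l.Nodup := by
  induction l with
  | nil => exact List.nodup_nil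
  | cons a l ih =>
    have h : band (bnot (memL a l)) (ndL l) = true := h
    rw [band_eq, bnot_eq, ← Bool.not_eq_true, memL_iff] at h
    exact List.nodup_cons.2 ⟨h.1, ih h.2⟩

/-- The value of the form. -/
noncomputable def lev (app : ℕ → ℕ → ℕ) (B p d : ℕ) (zw : List ℕ) (x : ℕ) : ℕ :=
  Nat.mod (dotc B d x (evp app zw x)) p

section
variable {B p d : ℕ} [Fact p.Prime] {c : MatCode (Fin d) (ZMod p)}
  (hpt : ∀ x (i : Fin d), c.act.pt x i = (dig B x i : ZMod p)) {O : List ℕ} (hO : ∀ x ∈ O, c.act.ok x) (hn : O.Nodup)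

/-- The form. -/
def frm (Z : GL (Fin d) (ZMod p)) (v : Fin d → ZMod p) : ℕ := (v ⬝ᵥ (Z • v)).val

theorem frm_smul {Z g : GL (Fin d) (ZMod p)} (h1 : g ∈ orth (Fin d) (ZMod p)) (h2 : g * Z = Z * g)
    (v : Fin d → ZMod p) : frm Z (g • v) = frm Z v := by
  unfold frm; rw [← mul_smul, ← h2, mul_smul, h1]

include hpt in
theorem frm_pt (zw : List ℕ) {x : ℕ} (hx : c.act.ok x) :
    frm (ev c.act.gen zw) (c.act.pt x) = lev c.act.app B p d zw x := by
  unfold frm lev
  rw [c.act.ev_smul zw hx, dot_dec (hpt _) (hpt _), ZMod.val_natCast]; rfl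

include hO hn in
theorem card_level (P : (Fin d → ZMod p) → Prop) [DecidablePred P] :
    (((O.map c.act.pt).toFinset).filter P).card = O.countP fun x => P (c.act.pt x) := by
  have e : ((O.map c.act.pt).toFinset).filter P = ((O.map c.act.pt).filter fun v => P v).toFinset := by
    ext v; simp
  rw [e, List.toFinset_card_of_nodup, ← List.countP_eq_length_filter, List.countP_map]
  · rfl
  · exact (hn.map_on fun x hx y hy => c.act.inj x y (hO x hx) (hO y hy)).filter _

theorem mem_pts {v : Fin d → ZMod p} : v ∈ (O.map c.act.pt).toFinset ↔ v ∈ pts c.act O := by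
  simp [pts]

include hpt hO hn

theorem count_level (zw : List ℕ) (k : ℕ) : (((O.map c.act.pt).toFinset).filter
    fun v => frm (ev c.act.gen zw) v = k).card = cntL (fun x => Nat.beq (lev c.act.app B p d zw x) k) O := by
  rw [card_level hO hn, cntL_eq]
  exact List.countP_congr fun x hx => by rw [frm_pt hpt zw (hO x hx), beq_iff]; simp

theorem level_mod {zw : List ℕ} (k : ℕ) {g : GL (Fin d) (ZMod p)} {q : ℕ} (hq : q.Prime) (h1 : g ^ q = 1)
    (h2 : g ∈ keep _ (pts_finite c.act O)) (h3 : g ∈ orth (Fin d) (ZMod p))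
    (h4 : g * ev c.act.gen zw = ev c.act.gen zw * g)
    (h5 : ∀ v ∈ pts c.act O, ∀ w ∈ pts c.act O, g • v = v → g • w = w → v = w) :
    cntL (fun x => Nat.beq (lev c.act.app B p d zw x) k) O % q ≤ 1 := by
  rw [← count_level hpt hO hn]
  refine card_mod_le_one hq h1 (fun v hv => ?_) fun v hv w hw => ?_
  · rw [Finset.mem_filter, mem_pts] at hv ⊢
    exact ⟨h2 v hv.1, by rw [frm_smul h3 h4, hv.2]⟩
  · rw [Finset.mem_filter, mem_pts] at hv hw
    exact h5 v hv.1 w hw.1

theorem level_shift (zw : List ℕ) (k : ℕ) {g : GL (Fin d) (ZMod p)} (h2 : g ∈ keep _ (pts_finite c.act O)) :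
    cntL (fun x => Nat.beq (lev c.act.app B p d zw x) k) O =
      O.countP fun x => frm (ev c.act.gen zw) (g • c.act.pt x) = k := by
  rw [← count_level hpt hO hn, ← card_level hO hn fun v => frm (ev c.act.gen zw) (g • v) = k]
  refine Finset.card_nbij' (fun v => g⁻¹ • v) (fun v => g • v) (fun v hv => ?_) (fun v hv => ?_)
    (fun v _ => smul_inv_smul _ _) fun v _ => inv_smul_smul _ _
  · simp only [Finset.coe_filter, Set.mem_ofPred_eq, mem_pts] at hv ⊢
    exact ⟨inv_mem h2 v hv.1, by rw [smul_inv_smul, hv.2]⟩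
  · simp only [Finset.coe_filter, Set.mem_ofPred_eq, mem_pts] at hv ⊢
    exact ⟨h2 v hv.1, hv.2⟩

end

end Cfsg.Agent.SpO
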