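import Cfsg.Agent.Lib.SpO.Ut

/-! Membership by words, normalisers, commutators, polycyclic series, invariant subspaces. -/

set_option autoImplicit false

namespace Cfsg.Agent.SpO
open Cfsg.Agent.CG Cfsg.Agent.DC Cfsg.Agent.Id
open scoped commutatorElement

theorem allL_app {α : Type} {p : α → Bool} {l m : List α} (h1 : allL p l = true) (h2 : allL p m = true) :
    allL p (l ++ m) = true := by
  rw [allL_iff] at *
  exact List.forall_mem_append.2 ⟨h1, h2⟩

theorem allL_cast {α : Type} {p : α → Bool} {l m : List α} (h : allL p m = true) (e : l = m) : allL p l = true := e ▸ h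

theorem ev_mem_inv {G : Type*} [Group G] {gen : ℕ → G} {inv : ℕ → ℕ} (hinv : ∀ a, gen (inv a) = (gen a)⁻¹)
    {S w : List ℕ} (h : allL (fun a => bor (memL a S) (memL (inv a) S)) w = true) : ev gen w ∈ cl gen S :=
  ev_mem _ fun a ha => by
    have := (allL_iff _ _).1 h a ha
    rw [bor_eq, memL_iff, memL_iff] at this
    exact this.elim (gen_mem_cl _) fun h => inv_mem_iff.1 (hinv a ▸ gen_mem_cl _ h)

/-- The word `l` equals a listed word in the letters `T` times the word `r`. -/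
noncomputable def inW (app : ℕ → ℕ → ℕ) (B : List ℕ) (Ws : List (List ℕ)) (T l r : List ℕ) : Bool :=
  anyL (fun v => band (eqW app B l (app2 v r)) (allL (fun a => memL a T) v)) Ws

/-- The word `g` normalises the letters `T`. -/
noncomputable def normW (app : ℕ → ℕ → ℕ) (B : List ℕ) (Ws : List (List ℕ)) (T g : List ℕ) : Bool :=
  allL (fun s => inW app B Ws T (app2 g [s]) g) T

/-- The commutators of the letters `S`, `S'` are words in `T`. -/
noncomputable def commW (app : ℕ → ℕ → ℕ) (B : List ℕ) (Ws : List (List ℕ)) (T S S' : List ℕ) : Bool :=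
  allL (fun a => allL (fun s => inW app B Ws T [a, s] [s, a]) S') S

/-- A polycyclic series with factors of order dividing `p`. -/
noncomputable def pcW (app : ℕ → ℕ → ℕ) (B : List ℕ) (Ws : List (List ℕ)) (p : ℕ) (S : List ℕ) : Bool :=
  List.rec (motive := fun _ => Bool) true
    (fun a T ih => band (inW app B Ws T (repL p a) []) (band (normW app B Ws T [a]) ih)) S

section
variable {G : Type*} [Group G]

theorem norm_cl [Finite G] {gen : ℕ → G} {T : List ℕ} {g : G} (h : ∀ s ∈ T, g * gen s * g⁻¹ ∈ cl gen T) :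
    g ∈ Subgroup.normalizer (cl gen T : Set G) :=
  Subgroup.mem_normalizer_fintype fun _ hn =>
    cl_le (H := (cl gen T).comap (MulAut.conj g).toMonoidHom) gen h hn

theorem conj_mem {K : Subgroup G} {g x : G} (h : g ∈ Subgroup.normalizer (K : Set G)) (hx : x ∈ K) :
    g * x * g⁻¹ ∈ K := (Subgroup.mem_normalizer_iff.1 h x).1 hx

theorem conj_mem' {K : Subgroup G} {g x : G} (h : g ∈ Subgroup.normalizer (K : Set G)) (hx : x ∈ K) :
    g⁻¹ * x * g ∈ K := (Subgroup.mem_normalizer_iff''.1 h x).1 hx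

theorem comm_left {N : Subgroup G} {gen : ℕ → G} {S : List ℕ} {y : G}
    (hS : ∀ a ∈ S, gen a ∈ Subgroup.normalizer (N : Set G)) (h : ∀ a ∈ S, ⁅gen a, y⁆ ∈ N) {x : G}
    (hx : x ∈ cl gen S) : ⁅x, y⁆ ∈ N := by
  let K : Subgroup G :=
    { carrier := {x | x ∈ Subgroup.normalizer (N : Set G) ∧ ⁅x, y⁆ ∈ N}
      one_mem' := ⟨one_mem _, by simp⟩
      mul_mem' := fun {a b} ha hb => ⟨mul_mem ha.1 hb.1, by
        have := mul_mem (conj_mem ha.1 hb.2) ha.2
        convert this using 1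
        simp [commutatorElement_def, mul_assoc]⟩
      inv_mem' := fun {a} ha => ⟨inv_mem ha.1, by
        have := conj_mem' ha.1 (inv_mem ha.2)
        convert this using 1
        simp [commutatorElement_def, mul_assoc]⟩ }
  exact (cl_le (H := K) gen (fun a ha => ⟨hS a ha, h a ha⟩) hx).2

theorem comm_mem {N : Subgroup G} {gen : ℕ → G} {S S' : List ℕ}
    (hS : ∀ a ∈ S, gen a ∈ Subgroup.normalizer (N : Set G)) (hS' : ∀ a ∈ S', gen a ∈ Subgroup.normalizer (N : Set G))
    (h : ∀ a ∈ S, ∀ s ∈ S', ⁅gen a, gen s⁆ ∈ N) {x y : G} (hx : x ∈ cl gen S) (hy : y ∈ cl gen S') : ⁅x, y⁆ ∈ N := by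
  rw [← commutatorElement_inv]
  refine inv_mem (comm_left hS' (fun s hs => ?_) hy)
  rw [← commutatorElement_inv]
  exact inv_mem (comm_left hS (fun a ha => h a ha s hs) hx)

theorem pc_form {gen : ℕ → G} {a p : ℕ} {T : List ℕ} (hp : 0 < p) (h1 : gen a ^ p ∈ cl gen T)
    (h2 : gen a ∈ Subgroup.normalizer (cl gen T : Set G)) {x : G} (hx : x ∈ cl gen (a :: T)) :
    ∃ j, j < p ∧ ∃ q ∈ cl gen T, x = gen a ^ j * q := by
  let K : Subgroup G :=
    { carrier := {x | ∃ j : ℤ, ∃ q ∈ cl gen T, x = gen a ^ j * q}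
      one_mem' := ⟨0, 1, one_mem _, by simp⟩
      mul_mem' := by
        rintro _ _ ⟨i, q, hq, rfl⟩ ⟨j, r, hr, rfl⟩
        exact ⟨i + j, _, mul_mem (conj_mem' (zpow_mem h2 j) hq) hr, by group⟩
      inv_mem' := by
        rintro _ ⟨i, q, hq, rfl⟩
        exact ⟨-i, _, conj_mem (zpow_mem h2 i) (inv_mem hq), by group⟩ }
  obtain ⟨j, q, hq, rfl⟩ : x ∈ K := cl_le (H := K) gen (all_cons ⟨1, 1, one_mem _, by simp⟩
    fun b hb => ⟨0, _, gen_mem_cl _ hb, by simp⟩) hx
  have h3 : 0 ≤ j % p := Int.emod_nonneg _ (by omega)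
  refine ⟨(j % p).toNat, by have := Int.emod_lt_of_pos j (show (0 : ℤ) < p by omega); omega, _,
    mul_mem (zpow_mem h1 (j / p)) hq, ?_⟩
  rw [← zpow_natCast, ← zpow_natCast, Int.toNat_of_nonneg h3, ← zpow_mul, ← mul_assoc, ← zpow_add, Int.emod_add_mul_ediv]

theorem pc_step [Finite G] {gen : ℕ → G} {a p : ℕ} {T : List ℕ} (hp : 0 < p) (h1 : gen a ^ p ∈ cl gen T)
    (h2 : gen a ∈ Subgroup.normalizer (cl gen T : Set G)) :
    Nat.card (cl gen (a :: T)) ≤ p * Nat.card (cl gen T) := by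
  have := Nat.card_le_card_of_surjective (β := cl gen (a :: T)) (fun x : Fin p × cl gen T => ⟨gen a ^ (x.1 : ℕ) * x.2,
    mul_mem (pow_mem (gen_mem_cl _ List.mem_cons_self) _) (cl_mono _ (fun _ => List.mem_cons_of_mem _) x.2.2)⟩)
    fun x => by
      obtain ⟨j, hj, q, hq, e⟩ := pc_form hp h1 h2 x.2
      exact ⟨(⟨j, hj⟩, ⟨q, hq⟩), Subtype.ext e.symm⟩
  simpa using this

theorem map_eq_of_le [Finite G] {K : Subgroup G} {α : MulAut G} (h : ∀ x ∈ K, α x ∈ K) {y : G} (hy : y ∈ K) :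
    ∃ x ∈ K, α x = y := by
  have : K.map α.toMonoidHom = K := Subgroup.eq_of_le_of_card_ge (by rintro _ ⟨x, hx, rfl⟩; exact h x hx)
    (Subgroup.card_map_of_injective α.injective).ge
  rw [← this] at hy
  exact hy

/-- The action on an invariant finite family of points. -/
theorem perm_rep {X ι : Type*} [MulAction G X] [Finite ι] {N : Subgroup G} {e : ι → X} (he : Function.Injective e)
    (h : ∀ n ∈ N, ∀ i, ∃ j, n • e i = e j) : ∃ φ : N →* Equiv.Perm ι, ∀ (n : N) i, (n : G) • e i = e (φ n i) := by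
  choose F hF using h
  have hi : ∀ n : N, Function.Bijective (F n n.2) := fun n => Finite.injective_iff_bijective.1 fun i j hij =>
    he (MulAction.injective (n : G) (by simp only [hF n n.2, hij]))
  refine ⟨MonoidHom.mk' (fun n => Equiv.ofBijective _ (hi n)) fun a b => Equiv.ext fun i => he ?_, fun n i => hF n n.2 i⟩
  change e (F _ _ i) = e (F _ _ (F _ _ i))
  rw [← hF, ← hF, ← hF, Subgroup.coe_mul, mul_smul]

end

section
variable {G X : Type*} [Group G] [MulAction G X] {A : Act G X} {B : List ℕ} (hB : A.IsBase B) {Ws : List (List ℕ)}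
include hB

theorem of_inW {T l r : List ℕ} (h : inW A.app B Ws T l r = true) : ev A.gen l * (ev A.gen r)⁻¹ ∈ cl A.gen T := by
  obtain ⟨v, -, hv⟩ := (anyL_iff _ _).1 h
  rw [band_eq, app2_eq, allL_iff] at hv
  rw [hB.ev_eq hv.1, ev_append, mul_inv_cancel_right]
  exact ev_mem _ fun a ha => gen_mem_cl _ ((memL_iff _ _).1 (hv.2 a ha))

theorem mem_of_inW {T l : List ℕ} (h : inW A.app B Ws T l [] = true) : ev A.gen l ∈ cl A.gen T := by
  simpa using of_inW hB h

theorem of_normW [Finite G] {T g : List ℕ} (h : normW A.app B Ws T g = true) :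
    ev A.gen g ∈ Subgroup.normalizer (cl A.gen T : Set G) :=
  norm_cl fun s hs => by simpa [app2_eq] using of_inW hB ((allL_iff _ _).1 h s hs)

theorem of_normA [Finite G] {T S : List ℕ} (h : allL (fun a => normW A.app B Ws T [a]) S = true) :
    ∀ a ∈ S, A.gen a ∈ Subgroup.normalizer (cl A.gen T : Set G) := fun a ha => by
  simpa using of_normW hB ((allL_iff _ _).1 h a ha)

theorem of_commW [Finite G] {T S S' : List ℕ} (h1 : allL (fun a => normW A.app B Ws T [a]) S = true)
    (h2 : allL (fun a => normW A.app B Ws T [a]) S' = true) (h : commW A.app B Ws T S S' = true) {x y : G}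
    (hx : x ∈ cl A.gen S) (hy : y ∈ cl A.gen S') : ⁅x, y⁆ ∈ cl A.gen T :=
  comm_mem (of_normA hB h1) (of_normA hB h2) (fun a ha s hs => by
    simpa [commutatorElement_def, mul_assoc] using of_inW hB ((allL_iff _ _).1 ((allL_iff _ _).1 h a ha) s hs)) hx hy

theorem of_pcW [Finite G] {p a : ℕ} {T : List ℕ} (h : pcW A.app B Ws p (a :: T) = true) :
    A.gen a ^ p ∈ cl A.gen T ∧ A.gen a ∈ Subgroup.normalizer (cl A.gen T : Set G) ∧ pcW A.app B Ws p T = true := by
  have h : band (inW A.app B Ws T (repL p a) []) (band (normW A.app B Ws T [a]) (pcW A.app B Ws p T)) = true := h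
  rw [band_eq, band_eq] at h
  exact ⟨ev_repL A.gen p a ▸ mem_of_inW hB h.1, by simpa using of_normW hB h.2.1, h.2.2⟩

theorem card_le_pc [Finite G] {p : ℕ} (hp : 0 < p) {S : List ℕ} (h : pcW A.app B Ws p S = true) :
    Nat.card (cl A.gen S) ≤ p ^ S.length := by
  induction S with
  | nil => rw [cl_nil]; simp
  | cons a T ih =>
    obtain ⟨h1, h2, h3⟩ := of_pcW hB h
    rw [List.length_cons, pow_succ']
    exact (pc_step hp h1 h2).trans (Nat.mul_le_mul_left _ (ih h3))

omit hB in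
/-- The pointwise stabiliser of the first base points is generated by the letters of the lower levels. -/
theorem fix_le_many [Finite G] {K : Subgroup G} {C : List Lvl} (hK : ∀ l' ∈ C, ∀ a ∈ l'.S, A.gen a ∈ K) {g : G} :
    ∀ {L : List Lvl} {fixed : List ℕ}, ChainOK A (L ++ C) fixed →
      Nat.card ↥(⊤ ⊓ A.fix fixed : Subgroup G) ≤ prodN (L ++ C) → g ∈ A.fix fixed → g ∈ A.fix (bases L) → g ∈ K
  | [], fixed, h, hc, hg, _ => by
    have h6 : K ⊓ A.fix fixed = ⊤ ⊓ A.fix fixed :=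
      Subgroup.eq_of_le_of_card_ge (inf_le_inf_right _ le_top) (le_trans hc (ChainOK.prodN_le h hK))
    have : g ∈ ⊤ ⊓ A.fix fixed := ⟨Subgroup.mem_top _, hg⟩
    rw [← h6] at this
    exact this.1
  | l :: L, fixed, h, hc, hg, hg' => by
    have h1 := h.1.le_card_orbit (K := ⊤) (fun _ _ => Subgroup.mem_top _)
    rw [card_fix_cons ⊤ fixed l.b] at hc
    have hg' : g ∈ A.fix (l.b :: bases L) := hg'
    rw [A.mem_fix_cons] at hg'
    exact fix_le_many hK h.2 (Nat.le_of_mul_le_mul_left (le_trans (Nat.mul_le_mul_right _ h1) hc) h.1.N_pos)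
      (A.mem_fix_cons.2 ⟨hg'.1, hg⟩) hg'.2

omit hB in
theorem fix_le_top [Finite G] {K : Subgroup G} {L C : List Lvl} (h : ChainOK A (L ++ C) [])
    (hc : Nat.card G ≤ prodN (L ++ C)) {S : List ℕ} (e : chainIn S C = true) (hK : ∀ a ∈ S, A.gen a ∈ K) {g : G}
    (hg : ∀ b ∈ bases L, g • A.pt b = A.pt b) : g ∈ K :=
  fix_le_many (fun l hl a ha => hK a (chainIn_mem e l hl a ha)) h (by rwa [A.fix_nil, inf_idem, Subgroup.card_top])
    (by simp [A.fix_nil]) hg

end

/-! ### Coordinate subspaces -/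

/-- The word maps the first `k` basis vectors into their span. -/
noncomputable def subB (mw : List ℕ → List ℕ → List ℕ) (B k : ℕ) (w : List ℕ) : Bool :=
  force (Nat.pow B k) fun M => allL (fun y => blt y M) (mw w (basp B 1 k))

section
variable {B p d : ℕ} [_root_.Fact p.Prime]

/-- The stabiliser of the span of the first `k` basis vectors. -/
def subK (d p k : ℕ) [_root_.Fact p.Prime] : Subgroup (GL (Fin d) (ZMod p)) :=
  keep _ (Set.toFinite {v : Fin d → ZMod p | ∀ i : Fin d, k ≤ i → v i = 0})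

theorem mem_basp' {B k x : ℕ} (h : x ∈ basp B 1 k) : ∃ i, i < k ∧ x = B ^ (1 * i) := by
  induction k with
  | zero => simp [basp] at h
  | succ k ih =>
    rcases List.mem_cons.1 (show x ∈ B ^ (1 * k) :: basp B 1 k from h) with rfl | h
    · exact ⟨k, by omega, rfl⟩
    · obtain ⟨i, h1, h2⟩ := ih h
      exact ⟨i, by omega, h2⟩

theorem subB_iff {c : MatCode (Fin d) (ZMod p)} (hpB : p ≤ B)
    (hpt : ∀ x (i : Fin d), c.act.pt x i = (dig B x i : ZMod p)) (hok : ∀ x, c.act.ok x ↔ red B p (1 * d) x = x)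
    (hb : ∀ x ∈ basp B 1 d, c.act.ok x) {mw : List ℕ → List ℕ → List ℕ} (h : IsBlk c.act.app c.act.ok mw) {k : ℕ}
    (hk : k ≤ d) (w : List ℕ) : subB mw B k w = true ↔ ev c.act.gen w ∈ subK d p k := by
  have hp := (_root_.Fact.out : p.Prime).one_lt
  have h1 : ∀ x ∈ basp B 1 k, c.act.ok x := fun x hx => by
    obtain ⟨i, hi, rfl⟩ := mem_basp' hx
    exact hb _ (mem_basp (by omega))
  have h2 : ∀ y, c.act.ok y → (y < B ^ k ↔ ∀ i : Fin d, k ≤ i → c.act.pt y i = 0) := fun y hy => by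
    rw [hok] at hy
    refine ⟨fun e i hi => ?_, fun e => ?_⟩
    · rw [hpt, dig, Nat.div_eq_of_lt (e.trans_le (Nat.pow_le_pow_right (by omega) hi))]; simp
    · obtain ⟨m, rfl⟩ := Nat.exists_eq_add_of_le hk
      have e2 : y = pk B k (dig B y) := by
        conv_lhs => rw [eq_pk_of_red (by omega) hpB hy, one_mul, pk, Finset.sum_range_add]
        rw [add_eq_left.2 (Finset.sum_eq_zero fun i hi => ?_)]; rfl
        have h3 := e ⟨k + i, by simpa using hi⟩ (by simp)
        rw [hpt, ZMod.natCast_eq_zero_iff] at h3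
        rw [Nat.eq_zero_of_dvd_of_lt h3 (dig_lt_of_red (by omega) hpB hy (by simpa using hi)), zero_mul]
      rw [e2]
      exact pk_lt fun i _ => Nat.mod_lt _ (by omega)
  have h3 : ∀ i : Fin d, c.act.pt (B ^ (1 * (i : ℕ))) = Pi.single i 1 := fun i => funext fun j => by
    rw [hpt, one_mul, dig_pow (by omega), Pi.single_apply]; simp [Fin.ext_iff]
  unfold subB
  rw [force_eq, h w _ h1, allL_iff]
  refine ⟨fun e v hv i hi => ?_, fun e y hy => ?_⟩
  · rw [pi_eq_sum_univ' v, Finset.smul_sum, Finset.sum_apply]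
    refine Finset.sum_eq_zero fun j _ => ?_
    by_cases hj : k ≤ j
    · simp [hv j hj]
    · have h4 : B ^ (1 * (j : ℕ)) ∈ basp B 1 k := mem_basp (by omega)
      rw [smul_comm, ← h3, c.act.ev_smul w (h1 _ h4), Pi.smul_apply,
        (h2 _ (c.act.ok_evp w (h1 _ h4))).1 ((blt_iff _ _).1 (e _ (List.mem_map_of_mem h4))) i hi, smul_zero]
  · obtain ⟨x, hx, rfl⟩ := List.mem_map.1 hy
    refine (blt_iff _ _).2 ((h2 _ (c.act.ok_evp w (h1 x hx))).2 ?_)
    rw [← c.act.ev_smul w (h1 x hx)]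
    obtain ⟨i, hi, rfl⟩ := mem_basp' hx
    refine e _ fun j hj => ?_
    rw [h3 ⟨i, by omega⟩, Pi.single_eq_of_ne (fun h => by rw [h] at hj; exact absurd hi (by simpa using hj))]

end

end Cfsg.Agent.SpO
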