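import Cfsg.Agent.Lib.SpO.Pc

/-! Automorphisms mapping subgroups of an embedded group into each other. -/

set_option autoImplicit false

namespace Cfsg.Agent.SpO
open Cfsg.Agent.CG
open scoped commutatorElement

variable {H G : Type*} [Group H] [Group G] {f : H →* G} {α : MulAut G}

/-- `α` maps the image of `K` into the image of `L`. -/
def Mp (f : H →* G) (α : MulAut G) (K L : Subgroup H) : Prop := ∀ x ∈ K, α (f x) ∈ L.map f

theorem mp_cl {gen : ℕ → H} {S : List ℕ} {L : Subgroup H} (h : ∀ a ∈ S, α (f (gen a)) ∈ L.map f) :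
    Mp f α (cl gen S) L := fun _ hx => cl_le (H := (L.map f).comap (α.toMonoidHom.comp f)) _ h hx

theorem mp_comm {K L N : Subgroup H} (hc : ∀ x ∈ K, ∀ y ∈ L, ⁅x, y⁆ ∈ N) {u v : H} (hu : α (f u) ∈ K.map f)
    (hv : α (f v) ∈ L.map f) : α (f ⁅u, v⁆) ∈ N.map f := by
  obtain ⟨x, hx, e1⟩ := hu
  obtain ⟨y, hy, e2⟩ := hv
  exact ⟨_, hc x hx y hy, by rw [map_commutatorElement, map_commutatorElement, map_commutatorElement, e1, e2]⟩

theorem comm_swap {K L N : Subgroup H} (hc : ∀ x ∈ K, ∀ y ∈ L, ⁅x, y⁆ ∈ N) : ∀ x ∈ L, ∀ y ∈ K, ⁅x, y⁆ ∈ N :=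
  fun x hx y hy => commutatorElement_inv y x ▸ inv_mem (hc y hy x hx)

theorem Mp.range {K L : Subgroup H} (h : Mp f α K L) {x : H} (hx : x ∈ K) : α (f x) ∈ f.range :=
  Subgroup.map_le_range f L (h x hx)

/-- Conjugation by the image of a normalising element. -/
theorem Mp.conj {K K' Q L : Subgroup H} (h : Mp f α⁻¹ K K') (h1 : K' ≤ Q) (h2 : Mp f α Q L) {e : H}
    (he : e ∈ Subgroup.normalizer (Q : Set H)) {x : H} (hx : x ∈ K) : (α (f e))⁻¹ * f x * α (f e) ∈ L.map f := by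
  obtain ⟨y, hy, e1⟩ := h x hx
  have := h2 _ (conj_mem' he (h1 hy))
  rwa [map_mul, map_mul, map_mul, map_mul, map_inv, map_inv, e1, MulAut.apply_inv_self] at this

theorem mp_of_map {K : Subgroup H} (h : (K.map f).map α.toMonoidHom = K.map f) : Mp f α K K ∧ Mp f α⁻¹ K K := by
  refine ⟨fun x hx => h ▸ ⟨_, ⟨x, hx, rfl⟩, rfl⟩, fun x hx => ?_⟩
  obtain ⟨y, hy, e⟩ : f x ∈ (K.map f).map α.toMonoidHom := h.symm ▸ ⟨x, hx, rfl⟩
  rw [← e]
  simpa using hy

theorem eq_one_of_mp (hf : Function.Injective f) {gen : ℕ → H} {x : H} (h : α (f x) ∈ (cl gen []).map f) : x = 1 := by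
  rw [cl_nil, Subgroup.map_bot, Subgroup.mem_bot, EmbeddingLike.map_eq_one_iff] at h
  exact hf (h.trans (map_one f).symm)

theorem norm_map {K : Subgroup H} {x : H} (h : x ∈ Subgroup.normalizer (K : Set H)) :
    f x ∈ Subgroup.normalizer (K.map f : Set G) := Subgroup.le_normalizer_map f ⟨x, h, rfl⟩

theorem comm_of_eqW {X : Type*} [MulAction H X] {A : Act H X} {B : List ℕ} (hB : A.IsBase B) {a b c : ℕ}
    (h : eqW A.app B [a, c, b] [b, c] = true) : A.gen a = ⁅A.gen b, A.gen c⁆ := by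
  have := hB.ev_eq h
  simp only [ev_cons, ev_nil, mul_one] at this
  rw [commutatorElement_def, ← this]; group

theorem conj_cl {gen : ℕ → G} {S : List ℕ} {K : Subgroup G} {h x : G}
    (hS : ∀ a ∈ S, h * gen a * h⁻¹ ∈ K) (hx : x ∈ cl gen S) : h * x * h⁻¹ ∈ K :=
  cl_le (H := K.comap (MulAut.conj h).toMonoidHom) _ hS hx

theorem mid_mem {K : Subgroup G} {a b c : G} (ha : a ∈ K) (hb : b ∈ K) :
    a * c * b ∈ K ↔ c ∈ K := by rw [K.mul_mem_cancel_right hb, K.mul_mem_cancel_left ha]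

theorem coset_eq {K : Subgroup G} {n a b : G} : n • (a : G ⧸ K) = (b : G ⧸ K) ↔ b⁻¹ * n * a ∈ K := by
  rw [MulAction.Quotient.smul_coe, eq_comm, QuotientGroup.eq, smul_eq_mul, mul_assoc]

/-- After a conjugation an automorphism mapping the subgroup into itself fixes it pointwise. -/
theorem fix_of_restrict [Finite H] (hf : Function.Injective f) (h : ∀ x, α (f x) ∈ f.range)
    (hH : ∀ γ : MulAut H, ∃ k, ∀ x, γ x = k * x * k⁻¹) : ∃ g, ∀ x, (MulAut.conj g * α : MulAut G) (f x) = f x := by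
  obtain ⟨γ, hγ⟩ := exists_restrict hf α h
  obtain ⟨k, hk⟩ := hH γ
  exact ⟨(f k)⁻¹, fun x => by rw [MulAut.mul_apply, ← hγ, hk, MulAut.conj_apply]; simp [mul_assoc]⟩

end Cfsg.Agent.SpO
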