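import Cfsg.Agent.Lib.SpO.Gen

/-! Coded matrices over a prime field: coordinates, dot products, invariant finite sets of vectors. -/

set_option autoImplicit false

namespace Cfsg.Agent.SpO
open Cfsg.Agent.CG Cfsg.Agent.Id Matrix Finset

/-- The columns of the identity matrix. -/
noncomputable def idc (B d : ℕ) : List ℕ := (List.range d).map fun i => B ^ i

/-- The checks on the tables of columns. -/
noncomputable def tabsOK (B p d : ℕ) (tabs : List (List ℕ)) : Bool :=
  band (allL (colsOKp B p 1 d (idc B d)) (idc B d :: tabs))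
    (allL (fun c => Nat.beq (red B p (1 * d) c) c) (basp B 1 d))

section
variable (B p d : ℕ) [Fact p.Prime] (hB : 1 * d * (p - 1) ^ 2 < B) (hpB : p ≤ B) (tabs : List (List ℕ))
  (I : List ℕ) (K : ℕ) (hK : Nat.ble tabs.length K = true) (hc : tabsOK B p d tabs = true)
  (hI : invOK (apppT B p (1 * d) tabs (idc B d)) (basp B 1 d) I K = true)

/-- Coded matrices over `ZMod p`. -/
noncomputable def code1 : MatCode (Fin d) (ZMod p) :=
  codep 1 B p 1 d Fin.val (Fact.out : p.Prime).one_lt hB hpB one_pos Fin.val_injective Fin.isLt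
    (fun i hi => ⟨⟨i, hi⟩, rfl⟩) prime_indep (idc B d)
    (theta_of_pow (Fact.out : p.Prime).one_lt hB hpB Fin.isLt (by simp [idc])
      (fun c hc' => by
        have := (allL_iff _ _).1 ((band_eq _ _).1 hc).1 _ List.mem_cons_self
        unfold colsOKp at this
        rw [band_eq, band_eq, allL_iff] at this
        exact (beq_iff _ _).1 (this.2.1 c hc'))
      (fun i hi => by
        rw [one_smul, List.getD_eq_getElem _ _ (by simpa [idc] using hi)]; simp [idc]))
    tabs (idc B d) I K hK ((band_eq _ _).1 hc).1 ((band_eq _ _).1 hc).2 hI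

theorem code1_pt (x : ℕ) (i : Fin d) : (code1 B p d hB hpB tabs I K hK hc hI).act.pt x i = (dig B x i : ZMod p) := by
  change decp 1 B 1 Fin.val x i = _
  simp [decp, vecp]

theorem code1_mat (a : ℕ) (i j : Fin d) : (code1 B p d hB hpB tabs I K hK hc hI).mat a i j =
    (dig B (nth (nth tabs (idc B d) a) 0 j) i : ZMod p) := by
  change matp 1 B 1 Fin.val (nth tabs (idc B d) a) i j = _
  simp [matp, decp, vecp, nth_eq]

theorem code1_triv (a : ℕ) (ha : K ≤ a) : (code1 B p d hB hpB tabs I K hK hc hI).act.gen a = 1 := by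
  apply Units.ext
  ext i j
  have hp := (Fact.out : p.Prime).one_lt
  rw [MatCode.coe_gen, code1_mat, nth_triv _ _ (((ble_iff _ _).1 hK).trans ha), nth_eq,
    List.getD_eq_getElem _ _ (by simp [idc]), Units.val_one, one_apply]
  simp [idc, dig_pow (by omega : 1 < B), Fin.ext_iff]

end

/-- The dot product of two coded vectors. -/
noncomputable def dotc (B D x y : ℕ) : ℕ :=
  Nat.rec (motive := fun _ => ℕ → ℕ → ℕ) (fun _ _ => 0)
    (fun _ ih x y => force x fun x => force y fun y =>
      Nat.add (Nat.mul (Nat.mod x B) (Nat.mod y B)) (ih (Nat.div x B) (Nat.div y B))) D x y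

theorem dotc_eq (B D x y : ℕ) : dotc B D x y = ∑ i ∈ range D, dig B x i * dig B y i := by
  induction D generalizing x y with
  | zero => rfl
  | succ D ih =>
    have : dotc B (D + 1) x y = force x fun x => force y fun y => x % B * (y % B) + dotc B D (x / B) (y / B) := rfl
    rw [this, force_eq, force_eq, ih, sum_range_succ', add_comm, dig_zero, dig_zero]
    simp [dig_succ]

theorem dot_dec {B p d : ℕ} {u v : Fin d → ZMod p} {x y : ℕ} (hx : ∀ i : Fin d, u i = (dig B x i : ZMod p))
    (hy : ∀ i : Fin d, v i = (dig B y i : ZMod p)) : u ⬝ᵥ v = (dotc B d x y : ZMod p) := by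
  rw [dotc_eq, dotProduct, ← Fin.sum_univ_eq_sum_range (fun i => dig B x i * dig B y i)]
  simp [hx, hy]

/-- One table of columns is the transpose of another. -/
noncomputable def trOK (B d : ℕ) (c c' : List ℕ) : Bool :=
  allLt (fun i => force (nth c 0 i) fun x => force (Nat.pow B i) fun q => allLt (fun j =>
    Nat.beq (Nat.mod (Nat.div x (Nat.pow B j)) B) (Nat.mod (Nat.div (nth c' 0 j) q) B)) d) d

theorem trOK_spec {B d : ℕ} {c c' : List ℕ} (h : trOK B d c c' = true) {i j : ℕ} (hi : i < d) (hj : j < d) :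
    dig B (nth c 0 i) j = dig B (nth c' 0 j) i := by
  have := (allLt_iff _ _).1 h i hi
  rw [force_eq, force_eq] at this
  exact (beq_iff _ _).1 ((allLt_iff _ _).1 this j hj)

section orth
variable {ι F : Type*} [Fintype ι] [DecidableEq ι] [Field F]

/-- The matrices preserving the dot product. -/
def orth (ι F : Type*) [Fintype ι] [DecidableEq ι] [Field F] : Subgroup (GL ι F) where
  carrier := {g | ∀ u v : ι → F, (g • u) ⬝ᵥ (g • v) = u ⬝ᵥ v}
  one_mem' u v := by simp
  mul_mem' {a b} ha hb u v := by rw [mul_smul, mul_smul, ha, hb]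
  inv_mem' {a} ha u v := by rw [← ha, smul_inv_smul, smul_inv_smul]

theorem mem_orth {c : MatCode ι F} {a : ℕ} (h : (c.mat a)ᵀ = c.mat (c.inv a)) : c.act.gen a ∈ orth ι F := fun u v => by
  change (c.mat a *ᵥ u) ⬝ᵥ (c.mat a *ᵥ v) = _
  rw [dotProduct_mulVec, vecMul_mulVec, h, c.inv_mul, vecMul_one]

end orth

section sets
variable {G V : Type*} [Group G] [MulAction G V]

/-- The elements mapping a finite set into itself. -/
def keep (G : Type*) {V : Type*} [Group G] [MulAction G V] {s : Set V} (hs : s.Finite) : Subgroup G where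
  carrier := {g | ∀ v ∈ s, g • v ∈ s}
  one_mem' v hv := by simpa using hv
  mul_mem' {a b} ha hb v hv := by rw [mul_smul]; exact ha _ (hb v hv)
  inv_mem' {a} ha v hv := by
    obtain ⟨w, h1, h2⟩ := ((hs.injOn_iff_bijOn_of_mapsTo (f := fun v => a • v) ha).1
      (fun _ _ _ _ e => MulAction.injective a e)).surjOn hv
    rw [← h2]; simpa using h1

theorem card_mod_le_one {s : Finset V} {g : G} {q : ℕ} (hq : q.Prime) (h1 : g ^ q = 1) (h2 : ∀ v ∈ s, g • v ∈ s)
    (h3 : ∀ v ∈ s, ∀ w ∈ s, g • v = v → g • w = w → v = w) : s.card % q ≤ 1 := by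
  classical
  have := Fact.mk hq
  let σ : Function.End s := fun v => ⟨g • v.1, h2 _ v.2⟩
  have h4 : ∀ k (v : s), ((σ ^ k) v).1 = g ^ k • v.1 := fun k => by
    induction k with
    | zero => intro v; simp [Function.End.one_def]
    | succ k ih => intro v; rw [pow_succ', pow_succ', mul_smul, ← ih]; rfl
  have h5 : σ ^ q ^ 1 = 1 := by
    funext v; apply Subtype.ext; rw [pow_one, h4, h1, one_smul]; rfl
  have h6 := Equiv.Perm.card_fixedPoints_modEq h5
  have h7 : Fintype.card (Function.fixedPoints σ) ≤ 1 := Fintype.card_le_one_iff.2 fun a b =>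
    Subtype.ext (Subtype.ext (h3 _ a.1.2 _ b.1.2 (congrArg Subtype.val a.2) (congrArg Subtype.val b.2)))
  rw [Fintype.card_coe] at h6
  rw [h6]
  exact (Nat.mod_le _ _).trans h7

variable (A : Act G V)

/-- The set of points with codes in a list. -/
def pts (O : List ℕ) : Set V := A.pt '' {x | x ∈ O}

theorem pts_finite (O : List ℕ) : (pts A O).Finite := (List.finite_toSet O).image _

/-- A word maps a list of codes into itself. -/
noncomputable def keepChk (app : ℕ → ℕ → ℕ) (O w : List ℕ) : Bool :=
  allL (fun x => force (evp app w x) fun y => memL y O) O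

variable {A}

theorem mem_keep {O w : List ℕ} (hO : ∀ x ∈ O, A.ok x) (h : keepChk A.app O w = true) :
    ev A.gen w ∈ keep G (pts_finite A O) := by
  rintro _ ⟨x, hx, rfl⟩
  have := (allL_iff _ _).1 h x hx
  rw [force_eq, memL_iff] at this
  exact ⟨_, this, (A.ev_smul w (hO x hx)).symm⟩

end sets

end Cfsg.Agent.SpO
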