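import Cfsg.Agent.Lib.SpO.BC

/-! The point stabiliser and the extra letter. -/

set_option autoImplicit false

namespace Cfsg.Agent.SpO
open Cfsg.Agent.CG Cfsg.Agent.DC

variable {H X Γ : Type*} [Group H] [MulAction H X] [Group Γ] {A : Act H X} {ty : Bool}
  {facts : Tr Fact} {nd : ℕ → ℕ} {rules : Tr DC.Rule} {f : H →* Γ} {t : Γ} {L : Subgroup Γ} {N : ℕ}
  (S : ∀ j, j < N → Sem A ty facts nd rules f (fun _ => t) (fun _ => 1) L (facts.get j))
include S

/-- The commutation facts. -/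
theorem dl_sem {x : ℕ × ℕ} (e : dlChk facts N 1 x = true) :
    f (A.gen x.1) * t = t * f (pw A.gen (facts.get x.2).h) := by
  unfold dlChk at e
  simp only [Bool.and_eq_true, blt_iff, beq_iff] at e
  obtain ⟨⟨⟨⟨k1, k2⟩, k3⟩, k4⟩, k5⟩ := e
  have k6 := (S _ k1).2.1 k2
  unfold Sem1 at k6
  rwa [k5, pw_letter _ k4, k3, zv_one, one_mul] at k6

omit S in
/-- The image of a letter under the extra letter is a given word. -/
noncomputable def dlW (app : ℕ → ℕ → ℕ) (B : List ℕ) (facts : Tr Fact) (wd : ℕ → List ℕ) (x : ℕ × ℕ) : Bool :=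
  apW app (facts.get x.2).h B fun l => apL app (wd x.1) B fun l' => eqL l l'

theorem dl_word {B : List ℕ} (hB : A.IsBase B) {wd : ℕ → List ℕ} {x : ℕ × ℕ} (e : dlChk facts N 1 x = true)
    (e2 : dlW A.app B facts wd x = true) : f (A.gen x.1) * t = t * f (ev A.gen (wd x.1)) := by
  obtain ⟨l, a1, a2⟩ := apW_spec (PL.one hB.1) e2
  obtain ⟨l', a3, a4⟩ := apL_spec (PL.one hB.1) a2
  rw [eqL_iff] at a4
  subst a4
  have b := a1.eq hB a3
  rw [mul_one, mul_one] at b
  rw [dl_sem S e, b]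

theorem stab_comm [Finite H] {B : List ℕ} (hB : A.IsBase B) {l : Lvl} {C : List Lvl} (h : ChainOK A (l :: C) [])
    (hc : Nat.card H ≤ prodN (l :: C)) {xs : List (ℕ × ℕ)} (e1 : chainIn (xs.map Prod.fst) C = true)
    (e2 : allL (dlChk facts N 1) xs = true) (e3 : allL (dlW A.app B facts fun a => [a]) xs = true) {g : H}
    (hg : g • A.pt l.b = A.pt l.b) : f g * t = t * f g := by
  refine Subgroup.mem_centralizer_singleton_iff.1 (fix_le (K := (Subgroup.centralizer {t}).comap f) h hc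
    (fun l' hl a ha => ?_) hg)
  obtain ⟨x, hx, rfl⟩ := List.mem_map.1 (chainIn_mem e1 l' hl a ha)
  have := dl_word S hB ((allL_iff _ _).1 e2 x hx) ((allL_iff _ _).1 e3 x hx)
  rw [ev_singleton] at this
  exact Subgroup.mem_centralizer_singleton_iff.2 this

end Cfsg.Agent.SpO
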